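import Cfsg.Agent.Lib.SmallGroups.J3Order.Tables
import Cfsg.Agent.Lib.SmallGroups.J3Order.ConcData

/-!
# Finite verifications in the model of `2^{1+4}·A₅`
-/

set_option autoImplicit false
set_option maxRecDepth 100000

namespace CfsgLib.SmallGroups.J3Order.Conc

/-- A representative. -/
def rp (c : ℕ) : ℕ := reps.getD c 0

/-- A representative of one of the eleven values. -/
def rp11 (g : ℕ) : ℕ := rp (main11.getD g 0)

/-- The seven values on the section of the involution. -/
def sect : List ℕ := [5, 8, 7, 6, 9, 10, 4]

/-- A power giving the involution. -/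
def sectPow : List ℕ := [2, 6, 4, 3, 5, 5, 1]

/-- Powers in the model. -/
def pw (r : ℕ) : ℕ → ℕ
  | 0 => 0
  | k + 1 => mul (pw r k) r

/-- Conjugators onto the elements of order four squaring to the centre. -/
def cj4 : List ℕ := [0, 1, 2, 3, 4, 5, 6, 7, 8, 9, 10, 11, 12, 13, 14, 15, 16, 17, 20, 24]

/-- Conjugators onto the elements of order six cubing to the centre. -/
def cj6 : List ℕ := [0, 1, 2, 3, 4, 5, 6, 7, 8, 9, 10, 11, 12, 13, 14, 15, 16, 17, 18, 19, 20, 21, 22, 23, 24, 25, 26, 27, 28, 29, 30, 31, 32, 33, 34, 35, 36, 37, 38, 39, 40, 41, 42, 43, 44, 45, 46, 47, 48, 49, 50, 51, 52, 53, 54, 55, 56, 57, 58, 59, 60, 62, 63, 84, 94, 95, 97, 99, 104, 105, 108, 109, 126, 127, 153, 161, 167, 174, 250, 263]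

theorem labels_ok : (labels.all fun p => decide (p.1 < 1920) && decide (p.2.1 < 16) && decide (p.2.2 < 1920) &&
    mul p.2.2 (rp p.2.1) == mul p.1 p.2.2) = true := by decide +kernel

theorem reps_ok : (reps.length == 16 && main11.length == 11 && fus.length == 16 &&
    reps.all (fun r => decide (r < 1920)) && rp11 4 == 960 && rp11 0 == 0) = true := by decide +kernel

theorem fus_ok : ((List.range 16).all fun c => decide (fus.getD c 0 < 11) &&
    (fus.getD c 0 == 4 || fus.getD c 0 == 5 || fus.getD c 0 == 6 || main11.getD (fus.getD c 0) 0 == c) &&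
    (!(fus.getD c 0 == 4) || (mul (rp c) (rp c) == 0 && !(rp c == 0))) &&
    (!(fus.getD c 0 == 5) || (pw (rp c) 4 == 0 && !(pw (rp c) 2 == 0))) &&
    (!(fus.getD c 0 == 6) || (pw (rp c) 6 == 0 && !(pw (rp c) 3 == 0) && !(pw (rp c) 2 == 0)))) = true := by
  decide +kernel

theorem sq_centre : ((List.range 1920).all fun i => !(mul i i == 960) ||
    cj4.any fun g => decide (g < 1920) && mul g (rp11 5) == mul i g) = true := by decide +kernel

theorem cube_centre : ((List.range 1920).all fun i => !(pw i 3 == 960) || pw i 2 == 0 ||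
    cj6.any fun g => decide (g < 1920) && mul g (rp11 6) == mul i g) = true := by decide +kernel

theorem sect_pow : (((sect.map rp11).zip sectPow).all fun p => pw p.1 p.2 == 960 &&
    (List.range 1920).any fun g => mul (mul p.1 g) p.1 == g) = true := by decide +kernel

theorem sect_distinct : ((List.range 7).all fun a => (List.range 7).all fun b => a == b ||
    (List.range 1920).all fun g => !(mul g ((sect.map rp11).getD a 0) == mul ((sect.map rp11).getD b 0) g)) = true := by
  decide +kernel

theorem cent_counts : ((sect.map rp11).map fun r => ((List.range 1920).filter fun g => mul g r == mul r g).length) =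
    [96, 12, 8, 24, 10, 10, 1920] := by decide +kernel

theorem inv_counts : ((sect.map rp11).map fun r => ((List.range 1920).filter fun b => mul b b == 0 && !(b == 0) &&
    mul (mul r b) (mul r b) == 0 && !(mul r b == 0)).length) = [28, 12, 8, 12, 10, 10, 130] := by decide +kernel

/-- The exponent of an element in a subgroup; seven outside. -/
def expo (L : List (ℕ × ℕ)) : ℕ → ℕ :=
  let packed := L.foldl (fun acc p => acc + (p.2 + 1) <<< (3 * p.1)) 0
  fun i => (packed >>> (3 * i)) % 8

theorem subs_ok : (subs.all fun L => decide (L.map Prod.fst).Nodup && (L.head? == some (0, 0)) &&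
    L.all (fun p => decide (p.1 < 1920) && expo L p.1 == p.2 + 1 && decide (p.2 < 6)) &&
    (List.range 1920).all (fun i => expo L i == 0 || L.any fun p => p.1 == i) &&
    L.all fun a => L.all fun b => expo L (mul a.1 b.1) == (a.2 + b.2) % 6 + 1) = true := by decide +kernel

theorem sylow_card : (subs.getD 10 []).length = 128 ∧ (subs.getD 10 []).all (fun p => p.2 == 0) = true := by
  decide +kernel

/-- The value of an element among the eleven. -/
def valIdx (i : ℕ) : ℕ :=
  match labels.find? (fun p => p.1 == i) with
  | some p => fus.getD p.2.1 11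
  | none => 11

theorem subs_labelled : (subs.all fun L => L.all fun p => labels.any fun q => q.1 == p.1) = true := by
  decide +kernel

/-- The coordinates of the conjugate of a sixth root of unity. -/
def conjPow (e : ℕ) : ℤ × ℤ := [(1, 0), (1, -1), (0, -1), (-1, 0), (-1, 1), (0, 1)].getD e (0, 0)

/-- The value indices of the elements of a subgroup with the conjugate character values. -/
def tagged (L : List (ℕ × ℕ)) : List (ℕ × ℤ × ℤ) := L.map fun p => (valIdx p.1, conjPow p.2)

/-- The sum of the first coordinates at a value. -/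
def sumA (g : ℕ) : List (ℕ × ℤ × ℤ) → ℤ
  | [] => 0
  | p :: l => (if p.1 = g then p.2.1 else 0) + sumA g l

/-- The sum of the second coordinates at a value. -/
def sumB (g : ℕ) : List (ℕ × ℤ × ℤ) → ℤ
  | [] => 0
  | p :: l => (if p.1 = g then p.2.2 else 0) + sumB g l

/-- An integer combination of the monomial characters, scaled by `1920`. -/
def comb (f : ℕ → List (ℕ × ℤ × ℤ) → ℤ) (g : ℕ) (c : List ℤ) : ℤ :=
  (c.zip subs).foldr (fun p acc => p.1 * (1920 / p.2.length : ℕ) * f g (tagged p.2) + acc) 0

theorem cert_ok : ((List.range 6).all fun j => (List.range 11).all fun g =>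
    comb sumA g (coef.getD j []) == (target.getD j []).getD g 0 && comb sumB g (coef.getD j []) == 0) = true := by
  decide +kernel

theorem sylow_values : ((List.range 11).map fun g => sumA g (tagged (subs.getD 10 []))) =
    [1, 0, 0, 0, 35, 44, 0, 48, 0, 0, 0] ∧
    ((List.range 11).all fun g => sumB g (tagged (subs.getD 10 [])) == 0) = true := by decide +kernel

theorem target_values : target = [[0, 0, 0, 0, -32, -160, -640, 960, 640, -384, -384], [0, 0, 0, 0, -32, 160, 320, 0, 320, -384, -384], [0, 0, 0, 0, 32, 160, -320, 960, 320, 384, 384], [0, 0, 0, 0, -48, -240, 0, -480, 0, 384, 384], [0, 0, 0, 0, -32, -160, 320, 960, -320, -384, -384], [0, 0, 0, 0, 32, -160, 640, 0, 640, 384, 384]] := rfl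

end CfsgLib.SmallGroups.J3Order.Conc
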