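import Cfsg.Agent.Lib.SmallGroups.J3Order.Setup
import Cfsg.Agent.Lib.SmallGroups.J3Order.Tables

/-!
# The centraliser as the image of the model
-/

set_option autoImplicit false
set_option maxRecDepth 100000
set_option linter.style.haveILetI false
set_option linter.unusedSectionVars false

namespace CfsgLib.SmallGroups.J3Order

open CfsgLib.Sporadic.CosetCert (appProd appProd_append)
open CfsgLib.SmallGroups.PermChain (comp)
open CfsgLib.Characterizations.HallJanko.Uniq
open CfsgLib.Characterizations.HallJanko.Uniq.Data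

/-- The centraliser of `t` is the bijective image of the model. -/
structure Loc {G : Type*} [Group G] (t : G) (ρ : ℕ → G) : Prop where
  ht : orderOf t = 2
  mul : ∀ i < 1920, ∀ j < 1920, ρ (mul i j) = ρ i * ρ j
  lt : ∀ i < 1920, ∀ j < 1920, J3Order.mul i j < 1920
  inj : ∀ i < 1920, ∀ j < 1920, ρ i = ρ j → i = j
  cover : ∀ g : G, g * t = t * g → ∃ i < 1920, ρ i = g
  comm : ∀ i < 1920, ρ i * t = t * ρ i
  one : ρ 0 = 1
  centre : ρ 960 = t

theorem lengths : qW.length = 32 ∧ kW.length = 60 ∧ qV.length = 32 ∧ kV.length = 60 := by decide +kernel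

theorem q_spec {a b : ℕ} (ha : a < 32) (hb : b < 32) :
    comp 32 (qV.getD a 0) (qV.getD b 0) = qV.getD (qMul a b) 0 ∧ qMul a b < 32 := by
  have h := List.all_eq_true.1 (List.all_eq_true.1 qMul_spec a (List.mem_range.2 ha)) b (List.mem_range.2 hb)
  simp only [Bool.and_eq_true, beq_iff_eq, decide_eq_true_eq] at h
  exact h

theorem k_spec {k l : ℕ} (hk : k < 60) (hl : l < 60) :
    comp 32 (kV.getD k 0) (kV.getD l 0) = kV.getD (kMul k l) 0 ∧ kMul k l < 60 := by
  have h := List.all_eq_true.1 (List.all_eq_true.1 kMul_spec k (List.mem_range.2 hk)) l (List.mem_range.2 hl)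
  simp only [Bool.and_eq_true, beq_iff_eq, decide_eq_true_eq] at h
  exact h

theorem a_spec {k b : ℕ} (hk : k < 60) (hb : b < 32) :
    comp 32 (kV.getD k 0) (qV.getD b 0) = comp 32 (qV.getD (qAct k b) 0) (kV.getD k 0) ∧ qAct k b < 32 := by
  have h := List.all_eq_true.1 (List.all_eq_true.1 qAct_spec k (List.mem_range.2 hk)) b (List.mem_range.2 hb)
  simp only [Bool.and_eq_true, beq_iff_eq, decide_eq_true_eq] at h
  exact h

theorem word_q {a : ℕ} (ha : a < 32) : Low (qW.getD a []) ∧ m32 (qW.getD a []) = qV.getD a 0 := by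
  obtain ⟨l1, -, l3, -⟩ := lengths
  constructor
  · refine word_facts.2.2.2.2.2.2.2.2.2.2.2 _ ?_
    rw [List.getD_eq_getElem (hn := by omega)]
    exact List.getElem_mem _
  · rw [List.getD_eq_getElem (hn := by omega), List.getD_eq_getElem (hn := by omega)]
    have e := List.getElem_of_eq values_ok.1 (show a < (qW.map m32).length by rw [List.length_map]; omega)
    rw [List.getElem_map] at e
    exact e

theorem word_k {k : ℕ} (hk : k < 60) : Low (kW.getD k []) ∧ m32 (kW.getD k []) = kV.getD k 0 := by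
  obtain ⟨-, l2, -, l4⟩ := lengths
  constructor
  · intro x hx
    have := five_facts.2.1 (kW.getD k []) (by
      rw [List.getD_eq_getElem (hn := by omega)]; exact List.getElem_mem _) x hx
    omega
  · rw [List.getD_eq_getElem (hn := by omega), List.getD_eq_getElem (hn := by omega)]
    have e := List.getElem_of_eq values_ok.2 (show k < (kW.map m32).length by rw [List.length_map]; omega)
    rw [List.getElem_map] at e
    exact e

theorem centre_index : comp 32 (qV.getD 16 0) (kV.getD 0 0) = zV ∧ kW.getD 0 [] = [] ∧ qW.getD 0 [] = [] := by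
  decide +kernel

variable {G : Type*} [Group G] [Finite G]

theorem exists_loc_of_frame {z : G} {Q K : Subgroup G} {v : ℕ → G} (hz : orderOf z = 2) (hF : Frame Q z v)
    (hC : Cent z Q K) : ∃ ρ : ℕ → G, Loc z ρ := by
  classical
  obtain ⟨l1, l2, -, -⟩ := lengths
  let q : ℕ → G := fun a => appProd v (qW.getD a [])
  let k : ℕ → G := fun a => appProd v (kW.getD a [])
  let ρ : ℕ → G := fun i => q (i / 60) * k (i % 60)
  have hqq : ∀ {a b}, a < 32 → b < 32 → q a * q b = q (qMul a b) := fun {a b} ha hb => by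
    obtain ⟨la, ea⟩ := word_q ha
    obtain ⟨lb, eb⟩ := word_q hb
    obtain ⟨e, hlt⟩ := q_spec ha hb
    obtain ⟨lc, ec⟩ := word_q hlt
    show appProd v _ * appProd v _ = appProd v _
    rw [← appProd_append]
    exact (hF.eqv _ _ (low_append lb la) lc).2 (by rw [m32_append, ea, eb, e, ec])
  have hkk : ∀ {a b}, a < 60 → b < 60 → k a * k b = k (kMul a b) := fun {a b} ha hb => by
    obtain ⟨la, ea⟩ := word_k ha
    obtain ⟨lb, eb⟩ := word_k hb
    obtain ⟨e, hlt⟩ := k_spec ha hb
    obtain ⟨lc, ec⟩ := word_k hlt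
    show appProd v _ * appProd v _ = appProd v _
    rw [← appProd_append]
    exact (hF.eqv _ _ (low_append lb la) lc).2 (by rw [m32_append, ea, eb, e, ec])
  have hkq : ∀ {a b}, a < 60 → b < 32 → k a * q b = q (qAct a b) * k a := fun {a b} ha hb => by
    obtain ⟨la, ea⟩ := word_k ha
    obtain ⟨lb, eb⟩ := word_q hb
    obtain ⟨e, hlt⟩ := a_spec ha hb
    obtain ⟨lc, ec⟩ := word_q hlt
    show appProd v _ * appProd v _ = appProd v _ * appProd v _
    rw [← appProd_append, ← appProd_append]
    exact (hF.eqv _ _ (low_append lb la) (low_append la lc)).2 (by rw [m32_append, m32_append, ea, eb, e, ec])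
  have hdiv : ∀ {i}, i < 1920 → i / 60 < 32 ∧ i % 60 < 60 := fun {i} hi => by omega
  have hcover : ∀ g : G, g * z = z * g → ∃ i < 1920, ρ i = g := by
    intro g hg
    obtain ⟨e, he, rfl⟩ := hF.cover g hg
    simp only [elems, List.mem_flatMap, List.mem_map] at he
    obtain ⟨⟨qw, qv⟩, hq, ⟨kw, kv⟩, hk, rfl⟩ := he
    obtain ⟨a, ha, ea⟩ := List.mem_iff_getElem.1 (List.of_mem_zip hq).1
    obtain ⟨b, hb, eb⟩ := List.mem_iff_getElem.1 (List.of_mem_zip hk).1
    refine ⟨60 * a + b, by omega, ?_⟩
    show q ((60 * a + b) / 60) * k ((60 * a + b) % 60) = appProd v (kw ++ qw)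
    rw [show (60 * a + b) / 60 = a by omega, show (60 * a + b) % 60 = b by omega, appProd_append]
    show appProd v (qW.getD a []) * appProd v (kW.getD b []) = _
    rw [List.getD_eq_getElem (hn := ha), List.getD_eq_getElem (hn := hb), ea, eb]
  have hcomm : ∀ L : List ℕ, appProd v L * z = z * appProd v L := by
    intro L
    induction L with
    | nil => simp [appProd]
    | cons x L ih =>
      simp only [appProd]
      exact ((show Commute (appProd v L) z from ih).mul_left (show Commute (v x) z from hF.cent x)).eq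
  have hρc : ∀ i, ρ i * z = z * ρ i := fun i =>
    ((show Commute (q (i / 60)) z from hcomm _).mul_left (show Commute (k (i % 60)) z from hcomm _)).eq
  refine ⟨ρ, hz, fun i hi j hj => ?_, fun i hi j hj => ?_, fun i hi j hj e => ?_, hcover,
    fun i _ => hρc i, ?_, ?_⟩
  · obtain ⟨i1, i2⟩ := hdiv hi
    obtain ⟨j1, j2⟩ := hdiv hj
    have h1 := (a_spec i2 j1).2
    have h2 := (q_spec i1 h1).2
    have h3 := (k_spec i2 j2).2
    show q (mul i j / 60) * k (mul i j % 60) = q (i / 60) * k (i % 60) * (q (j / 60) * k (j % 60))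
    simp only [mul]
    rw [show (60 * qMul (i / 60) (qAct (i % 60) (j / 60)) + kMul (i % 60) (j % 60)) / 60 =
        qMul (i / 60) (qAct (i % 60) (j / 60)) by omega,
      show (60 * qMul (i / 60) (qAct (i % 60) (j / 60)) + kMul (i % 60) (j % 60)) % 60 =
        kMul (i % 60) (j % 60) by omega, ← hqq i1 h1, ← hkk i2 j2]
    calc q (i / 60) * q (qAct (i % 60) (j / 60)) * (k (i % 60) * k (j % 60))
        = q (i / 60) * (q (qAct (i % 60) (j / 60)) * k (i % 60)) * k (j % 60) := by group
      _ = _ := by rw [← hkq i2 j1]; group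
  · obtain ⟨i1, i2⟩ := hdiv hi
    obtain ⟨j1, j2⟩ := hdiv hj
    have h2 := (q_spec i1 (a_spec i2 j1).2).2
    have h3 := (k_spec i2 j2).2
    simp only [mul]
    omega
  · let f : Fin 1920 → ↥(Subgroup.centralizer ({z} : Set G)) := fun i =>
      ⟨ρ i, Subgroup.mem_centralizer_singleton_iff.2 (hρc i)⟩
    have hf : Function.Bijective f := (Nat.bijective_iff_surjective_and_card f).2
      ⟨fun g => by
        obtain ⟨n, hn, he⟩ := hcover g (Subgroup.mem_centralizer_singleton_iff.1 g.2)
        exact ⟨⟨n, hn⟩, Subtype.ext he⟩, by rw [hC.card_C, Nat.card_fin]⟩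
    exact congrArg Fin.val (hf.1 (a₁ := ⟨i, hi⟩) (a₂ := ⟨j, hj⟩) (Subtype.ext e))
  · show q 0 * k 0 = 1
    simp only [q, k, centre_index.2.1, centre_index.2.2, appProd, mul_one]
  · show q 16 * k 0 = z
    obtain ⟨lq, eq⟩ := word_q (show 16 < 32 by norm_num)
    obtain ⟨lk, ek⟩ := word_k (show 0 < 60 by norm_num)
    rw [← hF.hz]
    show appProd v _ * appProd v _ = _
    rw [← appProd_append]
    exact (hF.eqv _ _ (low_append lk lq) word_facts.2.2.1).2
      (by rw [m32_append, eq, ek, centre_index.1, const_ok.2.1])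

theorem Hyp.exists_loc [IsSimpleGroup G] {Q C : Subgroup G} {z : G} (h : Hyp Q C z) :
    ∃ ρ : ℕ → G, Loc z ρ := by
  obtain ⟨K, hK⟩ := h.exists_cent
  obtain ⟨v, hv⟩ := exists_frame' hK
  exact exists_loc_of_frame h.hz hv hK

end CfsgLib.SmallGroups.J3Order
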