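import Cfsg.Agent.Lib.SmallGroups.J3Order.Triples

/-!
# The order of a simple group with one class of involutions and centraliser `2^{1+4}·A₅`
-/

set_option autoImplicit false
set_option maxRecDepth 100000
set_option linter.style.haveILetI false
set_option linter.unusedSectionVars false

namespace CfsgLib.SmallGroups.J3Order

open Search

/-- The coefficients of the first combination. -/
def cOne (j : ℕ) : ℤ := ([0, 1, 1, 1, 0, 0] : List ℤ).getD j 0

/-- The coefficients of the second combination. -/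
def cTwo (j : ℕ) : ℤ := ([0, 1, 0, 0, 0, 0] : List ℤ).getD j 0

theorem comb_facts : mk6 cOne = [0, 1, 1, 1, 0, 0] ∧ mk6 cTwo = [0, 1, 0, 0, 0, 0] ∧
    ([2, 1, 1, 1, 0, 0] : Vec) = mk6 (fun j => ([2, 1, 1, 1, 0, 0] : Vec).getD j 0) ∧
    ([0, 3, -1, -1, 1, 0] : Vec) = mk6 (fun j => ([0, 3, -1, -1, 1, 0] : Vec).getD j 0) ∧
    (∑ j ∈ Finset.range 6, cOne j * trv.getD j 0 = 1) ∧ (∑ j ∈ Finset.range 6, cTwo j * trv.getD j 0 = 0) ∧
    (∀ j < 6, (∑ i ∈ Finset.range 6, cOne i * (gram.getD i []).getD j 0) - 1 * trv.getD j 0 =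
      ([2, 1, 1, 1, 0, 0] : Vec).getD j 0) ∧
    (∀ j < 6, (∑ i ∈ Finset.range 6, cTwo i * (gram.getD i []).getD j 0) - 0 * trv.getD j 0 =
      ([0, 3, -1, -1, 1, 0] : Vec).getD j 0) ∧
    (∑ j ∈ Finset.range 6, cOne j * ∑ i ∈ Finset.range 6, cOne i * (gram.getD i []).getD j 0) - 1 * 1 = 3 ∧
    (∑ j ∈ Finset.range 6, cTwo j * ∑ i ∈ Finset.range 6, cTwo i * (gram.getD i []).getD j 0) - 0 * 0 = 3 := by
  decide +kernel

variable {ι : Type*} [Fintype ι]

/-- The order is `50232960`. -/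
theorem Tbl.n_eq (T : Tbl ι) : T.n = 50232960 := by
  obtain ⟨h1, h2, h3, h4, h5, h6, h7, h8, h9, h10⟩ := comb_facts
  obtain ⟨k, hk, x, y, z, hx, hy, hz, hs, he⟩ :=
    T.triple (C := cOne) (by rw [h1]; exact cands1) triples1 h3 1 h5 h7 h9
  have hne : ∀ {p : ℤ × ℤ} {v : ℤ}, Sig p v T.n → (v : ℚ) ≠ 0 := fun {p v} hv e => by
    have := hv.1
    rw [Int.cast_eq_zero.1 e] at this
    simp at this
  have hco1 : ∀ χ, T.co cOne χ = T.w χ 1 + T.w χ 2 + T.w χ 3 := fun χ => by
    simp [Tbl.co, cOne, Finset.sum_range_succ]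
  have hco2 : ∀ χ, T.co cTwo χ = T.w χ 1 := fun χ => by
    simp [Tbl.co, cTwo, Finset.sum_range_succ]
  have hn : T.n ∈ orders := by
    have hq := T.sumTH
    simp only [← hco1] at hq
    rw [he] at hq
    have hx' := hne hx
    have hy' := hne hy
    have hz' := hne hz
    field_simp at hq
    refine first_search hk ⟨T.npos, T.n1920, T.n256, hx, hy, hz, hs, ?_⟩
    rw [num1]
    qify
    push_cast at hq
    linear_combination hq
  obtain ⟨k2, hk2, x2, y2, z2, hx2, hy2, hz2, hs2, he2⟩ :=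
    T.triple (C := cTwo) (by rw [h2]; exact cands2) triples2 h4 0 h6 h8 h10
  refine second_search hk2 hn hx2 hy2 hz2 (by rw [hs2, neg_zero]) ?_
  have hq := T.sumT3
  simp only [← hco2] at hq
  rw [he2] at hq
  have hx' := hne hx2
  have hy' := hne hy2
  have hz' := hne hz2
  push_cast at hq
  field_simp at hq
  qify
  linear_combination hq

/-- The order of a simple group with one class of involutions and centraliser `2^{1+4}·A₅`. -/
theorem card_of_one {G : Type*} [Group G] [Finite G] [IsSimpleGroup G] {Q C : Subgroup G} {t : G}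
    (h : Hyp Q C t) (hone : ∀ x y : G, orderOf x = 2 → orderOf y = 2 → IsConj x y) :
    Nat.card G = 50232960 := by
  haveI := Fintype.ofFinite G
  obtain ⟨ρ, hρ⟩ := h.exists_loc
  obtain ⟨T, hT⟩ := hρ.exists_table hone
  rw [← hT, T.n_eq]

end CfsgLib.SmallGroups.J3Order
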