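import Cfsg.Agent.Lib.SmallGroups.J3Order.Conc
import Cfsg.Agent.Lib.SmallGroups.J3Order.Local
import Cfsg.Agent.Lib.Char.Orth
import Cfsg.Agent.Lib.Char.Linear

/-!
# Monomial characters of the centraliser
-/

set_option autoImplicit false
set_option maxRecDepth 100000
set_option linter.style.haveILetI false
set_option linter.unusedSectionVars false

open scoped ComplexConjugate

namespace CfsgLib.SmallGroups.J3Order

open Conc

/-- A primitive sixth root of unity. -/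
noncomputable def ω : ℂ := ⟨1 / 2, Real.sqrt 3 / 2⟩

theorem omega_sq : ω * ω = ω - 1 := by
  have h := Real.mul_self_sqrt (show (0 : ℝ) ≤ 3 by norm_num)
  apply Complex.ext <;> simp [ω, Complex.mul_re, Complex.mul_im] <;> linarith

theorem conj_omega : conj ω = 1 - ω := by
  apply Complex.ext <;> simp [ω] <;> norm_num

theorem omega_six : ω ^ 6 = 1 := by
  have h2 := omega_sq
  linear_combination (ω ^ 4 + ω ^ 3 - ω - 1) * h2

theorem omega_ne : ω ≠ 0 := fun h => by
  have := omega_six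
  rw [h] at this
  norm_num at this

theorem conj_pow_eq {e : ℕ} (he : e < 6) : conj (ω ^ e) = ((conjPow e).1 : ℂ) + ((conjPow e).2 : ℂ) * ω := by
  have h2 := omega_sq
  rw [map_pow, conj_omega]
  interval_cases e <;> simp only [conjPow, List.getD_cons_zero, List.getD_cons_succ] <;> push_cast
  · ring
  · ring
  · linear_combination h2
  · linear_combination (2 - ω) * h2
  · linear_combination (ω ^ 2 - 3 * ω + 2) * h2
  · linear_combination (-ω ^ 3 + 4 * ω ^ 2 - 5 * ω + 1) * h2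

/-- The exponent unit. -/
noncomputable def ωu : ℂˣ := Units.mk0 ω omega_ne

theorem omegau_pow_mod (n : ℕ) : ωu ^ (n % 6) = ωu ^ n := by
  conv_rhs => rw [← Nat.mod_add_div n 6, pow_add, pow_mul]
  have : ωu ^ 6 = 1 := Units.ext (by simp [ωu, omega_six])
  rw [this, one_pow, mul_one]

/-- The facts certified for one subgroup. -/
structure Sub (L : List (ℕ × ℕ)) : Prop where
  nodup : (L.map Prod.fst).Nodup
  one : (0, 0) ∈ L
  lt : ∀ p ∈ L, p.1 < 1920 ∧ p.2 < 6
  expo_eq : ∀ p ∈ L, expo L p.1 = p.2 + 1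
  mem : ∀ i < 1920, expo L i ≠ 0 → ∃ p ∈ L, p.1 = i
  mul : ∀ a ∈ L, ∀ b ∈ L, expo L (mul a.1 b.1) = (a.2 + b.2) % 6 + 1

theorem sub_of_mem {L : List (ℕ × ℕ)} (hL : L ∈ subs) : Sub L := by
  have h := List.all_eq_true.1 subs_ok L hL
  simp only [Bool.and_eq_true, decide_eq_true_eq, beq_iff_eq, List.all_eq_true, Bool.or_eq_true,
    List.any_eq_true] at h
  obtain ⟨⟨⟨⟨h1, h2⟩, h3⟩, h4⟩, h5⟩ := h
  refine ⟨h1, List.mem_of_mem_head? h2, fun p hp => ⟨(h3 p hp).1.1, (h3 p hp).2⟩, fun p hp => (h3 p hp).1.2,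
    fun i hi hne => (h4 i (List.mem_range.2 hi)).resolve_left hne, h5⟩

variable {G : Type*} [Group G] [Fintype G] {t : G} {ρ : ℕ → G}

theorem Loc.mem_unique (_h : Loc t ρ) {L : List (ℕ × ℕ)} (hS : Sub L) {p q : ℕ × ℕ} (hp : p ∈ L) (hq : q ∈ L)
    (he : p.1 = q.1) : p = q := by
  have h1 := hS.expo_eq p hp
  have h2 := hS.expo_eq q hq
  rw [he, h2] at h1
  exact Prod.ext he (by omega)

/-- The multiplicity of a monomial character is an integer. -/
theorem Loc.exists_mult (h : Loc t ρ) {L : List (ℕ × ℕ)} (hS : Sub L) {χ : G → ℂ} (hχ : Cfsg.IsCharacter G χ) :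
    ∃ n : ℤ, (L.map fun p => χ (ρ p.1) * conj (ω ^ p.2)).sum = (L.length : ℂ) * (n : ℂ) := by
  classical
  have hclosed : ∀ p ∈ L, ∀ q ∈ L, ∃ r ∈ L, r.1 = J3Order.mul p.1 q.1 ∧ r.2 = (p.2 + q.2) % 6 := by
    intro p hp q hq
    obtain ⟨r, hr, he⟩ := hS.mem _ (h.lt _ (hS.lt p hp).1 _ (hS.lt q hq).1) (by rw [hS.mul p hp q hq]; omega)
    refine ⟨r, hr, he, ?_⟩
    have h1 := hS.expo_eq r hr
    rw [he, hS.mul p hp q hq] at h1
    omega
  let M : Submonoid G :=
    { carrier := {g | ∃ p ∈ L, ρ p.1 = g}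
      one_mem' := ⟨(0, 0), hS.one, h.one⟩
      mul_mem' := by
        rintro _ _ ⟨p, hp, rfl⟩ ⟨q, hq, rfl⟩
        obtain ⟨r, hr, e1, -⟩ := hclosed p hp q hq
        exact ⟨r, hr, by rw [e1, h.mul _ (hS.lt p hp).1 _ (hS.lt q hq).1]⟩ }
  let H : Subgroup G :=
    { M with
      inv_mem' := fun {g} hg => by
        have hpos := orderOf_pos g
        rw [show g⁻¹ = g ^ (orderOf g - 1) from inv_eq_of_mul_eq_one_right (by
          rw [← pow_succ', Nat.sub_add_cancel hpos, pow_orderOf_eq_one])]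
        exact M.pow_mem hg _ }
  have hmemH : ∀ g, g ∈ H ↔ ∃ p ∈ L, ρ p.1 = g := fun g => Iff.rfl
  have hex : ∀ x : H, ∃ p ∈ L, ρ p.1 = x := fun x => (hmemH x).1 x.2
  choose pick hpick hval using hex
  have huniq : ∀ (x : H) (p : ℕ × ℕ), p ∈ L → ρ p.1 = x → pick x = p := fun x p hp he =>
    h.mem_unique hS (hpick x) hp (h.inj _ (hS.lt _ (hpick x)).1 _ (hS.lt p hp).1 ((hval x).trans he.symm))
  let φ : H →* ℂˣ :=
    { toFun := fun x => ωu ^ (pick x).2
      map_one' := by rw [huniq 1 (0, 0) hS.one h.one, pow_zero]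
      map_mul' := fun x y => by
        obtain ⟨r, hr, e1, e2⟩ := hclosed _ (hpick x) _ (hpick y)
        rw [huniq (x * y) r hr (by rw [e1, h.mul _ (hS.lt _ (hpick x)).1 _ (hS.lt _ (hpick y)).1, hval, hval]; rfl),
          e2, omegau_pow_mod, pow_add] }
  obtain ⟨n, hn⟩ := CfsgLib.Char.IsCharacter.classInner_nat (CfsgLib.Char.IsCharacter.restrict hχ H)
    (CfsgLib.Char.isCharacter_hom φ)
  have hnd : L.Nodup := List.Nodup.of_map _ hS.nodup
  have hcard : Nat.card H = L.length := by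
    rw [← List.toFinset_card_of_nodup hnd, Nat.card_eq_fintype_card, ← Finset.card_univ]
    refine Finset.card_bij (fun x _ => pick x) (fun x _ => List.mem_toFinset.2 (hpick x))
      (fun x _ y _ e => Subtype.ext (by rw [← hval x, ← hval y, e])) fun p hp => ?_
    exact ⟨⟨ρ p.1, (hmemH _).2 ⟨p, List.mem_toFinset.1 hp, rfl⟩⟩, Finset.mem_univ _,
      huniq _ p (List.mem_toFinset.1 hp) rfl⟩
  refine ⟨n, ?_⟩
  have hsum : ∑ x : H, χ (x : G) * conj ((φ x : ℂˣ) : ℂ) = (L.map fun p => χ (ρ p.1) * conj (ω ^ p.2)).sum := by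
    rw [← List.sum_toFinset _ hnd]
    refine Finset.sum_bij (fun x _ => pick x) (fun x _ => List.mem_toFinset.2 (hpick x))
      (fun x _ y _ e => Subtype.ext (by rw [← hval x, ← hval y, e])) (fun p hp => ?_) fun x _ => ?_
    · exact ⟨⟨ρ p.1, (hmemH _).2 ⟨p, List.mem_toFinset.1 hp, rfl⟩⟩, Finset.mem_univ _,
        huniq _ p (List.mem_toFinset.1 hp) rfl⟩
    · simp only [φ, MonoidHom.coe_mk, OneHom.coe_mk, Units.val_pow_eq_pow_val, hval]
      rfl
  rw [Cfsg.classInner, hsum, hcard] at hn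
  have hne : (L.length : ℂ) ≠ 0 := by rw [← hcard]; exact Nat.cast_ne_zero.2 Nat.card_pos.ne'
  rw [inv_mul_eq_iff_eq_mul₀ hne] at hn
  rw [hn, Int.cast_natCast]

theorem sum_tagged (val : ℕ → ℂ) : ∀ l : List (ℕ × ℤ × ℤ), (∀ p ∈ l, p.1 < 11) →
    (l.map fun p => val p.1 * ((p.2.1 : ℂ) + (p.2.2 : ℂ) * ω)).sum =
      ∑ g ∈ Finset.range 11, val g * ((sumA g l : ℂ) + (sumB g l : ℂ) * ω)
  | [], _ => by simp [sumA, sumB]
  | p :: l, hl => by
    rw [List.map_cons, List.sum_cons, sum_tagged val l fun q hq => hl q (List.mem_cons_of_mem _ hq)]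
    rw [show val p.1 * ((p.2.1 : ℂ) + (p.2.2 : ℂ) * ω) =
      ∑ g ∈ Finset.range 11, if g = p.1 then val g * ((p.2.1 : ℂ) + (p.2.2 : ℂ) * ω) else 0 by
        rw [Finset.sum_ite_eq', if_pos (Finset.mem_range.2 (hl p List.mem_cons_self))], ← Finset.sum_add_distrib]
    refine Finset.sum_congr rfl fun g _ => ?_
    by_cases hg : g = p.1
    · subst hg; simp only [if_true, sumA, sumB]; push_cast; ring
    · simp only [if_neg hg, sumA, sumB, if_neg (Ne.symm hg)]; simp

end CfsgLib.SmallGroups.J3Order
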