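import Cfsg.Agent.Lib.SmallGroups.J3Order.SelfCentral

/-!
# An involution outside the extraspecial group

In a simple group the centraliser `2^{1+4}.A₅` of an involution splits.
-/

set_option autoImplicit false
set_option linter.style.haveILetI false
set_option linter.unusedSectionVars false
set_option synthInstance.maxSize 4000
set_option synthInstance.maxHeartbeats 200000

namespace CfsgLib.SmallGroups.J3Order

open CfsgLib.Characterizations.HallJanko (central_of_commute)
open CfsgLib.Characterizations.HallJankoCount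
open CfsgLib.Involution.Dihedral
open CfsgLib.ThreeTransp.Extraspecial (Extra)
open Equiv

set_option maxRecDepth 100000 in
/-- Three points carry every pair of points under a five-cycle. -/
theorem triangle_cover : ∀ σ : Perm (Fin 5), σ ^ 5 = 1 → σ ≠ 1 → ∀ i j k : Fin 5, i ≠ j → i ≠ k → j ≠ k →
    ∀ a b : Fin 5, a ≠ b → ∃ n : Fin 5, ((σ ^ (n : ℕ)) i = a ∧ (σ ^ (n : ℕ)) j = b) ∨
      ((σ ^ (n : ℕ)) j = a ∧ (σ ^ (n : ℕ)) i = b) ∨ ((σ ^ (n : ℕ)) i = a ∧ (σ ^ (n : ℕ)) k = b) ∨
      ((σ ^ (n : ℕ)) k = a ∧ (σ ^ (n : ℕ)) i = b) ∨ ((σ ^ (n : ℕ)) j = a ∧ (σ ^ (n : ℕ)) k = b) ∨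
      ((σ ^ (n : ℕ)) k = a ∧ (σ ^ (n : ℕ)) j = b) := by
  decide +kernel

variable {G : Type*} [Group G] [Finite G] {Q C : Subgroup G} {z : G}

theorem Hyp.pre [IsSimpleGroup G] (h : Hyp Q C z) : Pre Q C z where
  extra := h.extra
  card_Q := h.card_Q
  norm := h.norm
  cent := fun c hc => h.mem_C.1 hc
  five := fun g hg ho => by
    by_contra hn
    push Not at hn
    have hgQ := h.cent_le g hg hn
    rcases h.extra.sq_cases hgQ with e | e
    · have := orderOf_dvd_of_pow_eq_one (show g ^ 2 = 1 by rw [pow_two, e])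
      rw [ho] at this
      norm_num at this
    · have := orderOf_dvd_of_pow_eq_one (show g ^ 4 = 1 by
        rw [show g ^ 4 = g * g * (g * g) by simp [pow_succ, mul_assoc], e, h.extra.z_sq])
      rw [ho] at this
      norm_num at this
  has_five := by
    obtain ⟨π, hπ, -⟩ := h.quot
    haveI : Fact (Nat.Prime 5) := ⟨by norm_num⟩
    have h5 : (5 : ℕ) ∣ Nat.card ↥C :=
      (show 5 ∣ Nat.card (alternatingGroup (Fin 5)) by rw [Nat.card_eq_fintype_card]; decide).trans
        (Subgroup.card_dvd_of_surjective π hπ)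
    obtain ⟨g, hg⟩ := exists_prime_orderOf_dvd_card' (G := ↥C) 5 h5
    exact ⟨g, g.2, by rw [Subgroup.orderOf_coe, hg]⟩

/-- Two commuting non-central involutions of the extraspecial group are equal up to the centre. -/
theorem comm_invs (hp : Pre Q C z) {u v : G} (hu : u ∈ invs Q z) (hv : v ∈ invs Q z) (huv : Commute u v) :
    Near z u v := by
  classical
  by_contra hne
  obtain ⟨g, hgC, hg⟩ := hp.has_five
  obtain ⟨t, φ, h5, ht, hall, hdist, heq⟩ := exists_frame_pre hp
  have hw : u * v ∈ invs Q z := by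
    refine ⟨mul_mem hu.1 hv.1, by rw [huv.symm.mul_mul_mul_comm, hu.2.1, hv.2.1, one_mul], fun e => hne ?_,
      fun e => hne ?_⟩
    · rw [mul_eq_one_iff_eq_inv] at e
      exact Or.inl (inv_injective (by rw [← e, inv_of_invs hu]))
    · refine Or.inr ?_
      rw [← e, ← mul_assoc, hu.2.1, one_mul]
  obtain ⟨i, hi⟩ := hall u hu
  obtain ⟨j, hj⟩ := hall v hv
  obtain ⟨k, hk⟩ := hall (u * v) hw
  have hij : i ≠ j := fun e => hne (near_trans hp (near_symm hp (e ▸ hi)) hj)
  have hik : i ≠ k := fun e => by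
    rcases near_trans hp (near_symm hp (e ▸ hi)) hk with e' | e'
    · exact hv.2.2.1 (mul_eq_left.1 e')
    · exact hv.2.2.2 (mul_left_cancel e')
  have hjk : j ≠ k := fun e => by
    rcases near_trans hp (near_symm hp (e ▸ hj)) hk with e' | e'
    · exact hu.2.2.1 (mul_eq_right.1 e')
    · rw [← hp.extra.z_comm hv.1] at e'
      exact hu.2.2.2 (mul_right_cancel e')
  have hpair : ∀ {a b : Fin 5} {x y : G}, y ∈ Q → Near z (t a) x → Near z (t b) y → Commute x y →
      Commute (t a) (t b) := fun {a b x y} hy h1 h2 hc =>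
    ((comm_near hp (ht a).1 h2).1 ((comm_near hp hy h1).1 hc).symm).symm
  have cij : Commute (t i) (t j) := hpair hv.1 hi hj huv
  have cik : Commute (t i) (t k) := hpair hw.1 hi hk ((Commute.refl u).mul_right huv)
  have cjk : Commute (t j) (t k) := hpair hw.1 hj hk (huv.symm.mul_right (Commute.refl v))
  let g' : ↥C := ⟨g, hgC⟩
  have hg5 : g' ^ 5 = 1 := Subtype.ext (by
    rw [Subgroup.coe_pow, Subgroup.coe_one]; exact hg ▸ pow_orderOf_eq_one g)
  have hmove : ∀ (n : ℕ) {a b : Fin 5}, Commute (t a) (t b) →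
      Commute (t ((φ g' ^ n) a)) (t ((φ g' ^ n) b)) := fun n a b hc => by
    rw [← map_pow]
    refine hpair (hp.norm _ (g' ^ n).2 _ (ht b).1) (heq (g' ^ n) a) (heq (g' ^ n) b) ?_
    show _ * _ = _ * _
    rw [conj_mul, conj_mul, hc.eq]
  have hallc : ∀ a b : Fin 5, Commute (t a) (t b) := by
    intro a b
    by_cases hab : a = b
    · rw [hab]
    obtain ⟨n, hn⟩ := triangle_cover (φ g') (by rw [← map_pow, hg5, map_one]) (h5 g' hg) i j k hij hik hjk a b hab
    rcases hn with ⟨e1, e2⟩ | ⟨e1, e2⟩ | ⟨e1, e2⟩ | ⟨e1, e2⟩ | ⟨e1, e2⟩ | ⟨e1, e2⟩ <;> rw [← e1, ← e2]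
    exacts [hmove n cij, hmove n cij.symm, hmove n cik, hmove n cik.symm, hmove n cjk, hmove n cjk.symm]
  rcases central_of_commute hp (ht 0).1 (fun x hx => by
    obtain ⟨a, ha⟩ := hall x hx
    exact ((comm_near hp (ht 0).1 ha).2 (hallc a 0)).symm.eq) with e | e
  · exact (ht 0).2.2.1 e
  · exact (ht 0).2.2.2 e

theorem Hyp.exists_outer [IsSimpleGroup G] (h : Hyp Q C z) : ∃ v ∈ C, v ∉ Q ∧ v * v = 1 := by
  classical
  by_contra hno
  push Not at hno
  have hp := h.pre
  have hzz : z * z = 1 := mul_self h.hz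
  have hE : ∀ v : G, v * z = z * v → v * v = 1 → v ∈ Q := fun v hv hvv => by
    by_contra hvQ
    exact hno v (h.mem_C.2 hv) hvQ hvv
  obtain ⟨g, hgc, hgne⟩ := h.exists_conj
  obtain ⟨u, hu⟩ : ∃ u, u = g * z * g⁻¹ := ⟨_, rfl⟩
  rw [← hu] at hgc hgne
  have huu : u * u = 1 := by rw [hu, conj_mul, hzz, mul_one, mul_inv_cancel]
  have huQ : u ∈ Q := hE u hgc.symm.eq huu
  have hu1 : u ≠ 1 := fun e => h.extra.z_ne (by
    calc z = g⁻¹ * u * g := by rw [hu]; group
      _ = 1 := by rw [e]; group)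
  have huz : u ≠ z := hgne
  -- `z` lies in the conjugate of `Q`
  have hxQ : g⁻¹ * z * g ∈ Q := hE _ (by
      calc g⁻¹ * z * g * z = g⁻¹ * (z * u) * g := by rw [hu]; group
        _ = g⁻¹ * (u * z) * g := by rw [hgc.eq]
        _ = z * (g⁻¹ * z * g) := by rw [hu]; group)
    (by rw [show g⁻¹ * z * g * (g⁻¹ * z * g) = g⁻¹ * (z * z) * g by group, hzz]; group)
  obtain ⟨e, heQ, he⟩ := h.extra.exists_conj_eq huQ hu1 huz
  obtain ⟨f₀, hf₀Q, hf₀⟩ := h.extra.exists_conj_eq hxQ
    (fun e' => h.extra.z_ne (by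
      calc z = g * (g⁻¹ * z * g) * g⁻¹ := by group
        _ = 1 := by rw [e']; group))
    (fun e' => huz (by
      calc u = g * (g⁻¹ * z * g) * g⁻¹ := by rw [e']; exact hu
        _ = z := by group))
  obtain ⟨f, hf⟩ : ∃ f, f = g * f₀ * g⁻¹ := ⟨_, rfl⟩
  have hfz : f * z * f⁻¹ = z * u := by
    calc f * z * f⁻¹ = g * (f₀ * (g⁻¹ * z * g) * f₀⁻¹) * g⁻¹ := by rw [hf]; group
      _ = z * u := by rw [hf₀, hu]; group
  have hfu : f * u * f⁻¹ = u := by
    calc f * u * f⁻¹ = g * (f₀ * z * f₀⁻¹) * g⁻¹ := by rw [hf, hu]; group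
      _ = u := by rw [← h.extra.z_comm hf₀Q, mul_inv_cancel_right, hu]
  have hez : e * z * e⁻¹ = z := by rw [← h.extra.z_comm heQ, mul_inv_cancel_right]
  -- an element exchanging `z` and `u`
  obtain ⟨s, hs⟩ : ∃ s, s = e * f * e := ⟨_, rfl⟩
  have hsz : s * z * s⁻¹ = u := by
    calc s * z * s⁻¹ = e * (f * (e * z * e⁻¹) * f⁻¹) * e⁻¹ := by rw [hs]; group
      _ = e * (f * z * f⁻¹) * e⁻¹ := by rw [hez]
      _ = e * z * e⁻¹ * (e * u * e⁻¹) := by rw [hfz]; group
      _ = u := by rw [hez, he, ← mul_assoc, h.extra.z_comm huQ, mul_assoc, hzz, mul_one]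
  have hsu : s * u * s⁻¹ = z := by
    calc s * u * s⁻¹ = e * (f * (e * u * e⁻¹) * f⁻¹) * e⁻¹ := by rw [hs]; group
      _ = e * ((f * u * f⁻¹) * (f * z * f⁻¹)) * e⁻¹ := by rw [he]; group
      _ = e * z * e⁻¹ := by rw [hfu, hfz, hgc.eq, ← mul_assoc u u, huu, one_mul]
      _ = z := hez
  have hscomm : ∀ {x : G}, x * z = z * x → x * u = u * x → s * x * s⁻¹ * z = z * (s * x * s⁻¹) ∧
      s * x * s⁻¹ * u = u * (s * x * s⁻¹) := fun {x} h1 h2 => by
    constructor
    · rw [← hsu, conj_mul, conj_mul, h2]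
    · rw [← hsz, conj_mul, conj_mul, h1]
  let A : G → Prop := fun a => a ∈ Q ∧ a * u = u * a
  have hAz : ∀ {a}, A a → a * z = z * a := fun ha => (h.extra.z_comm ha.1).symm
  have hAconj : ∀ {b}, b * z = z * b → b * u = u * b → ∀ {a}, A a → A (b * a * b⁻¹) := fun {b} h1 h2 {a} ha => by
    refine ⟨h.norm b (h.mem_C.2 h1) a ha.1, ?_⟩
    have hbu : b * u * b⁻¹ = u := by rw [h2, mul_inv_cancel_right]
    calc b * a * b⁻¹ * u = b * a * b⁻¹ * (b * u * b⁻¹) := by rw [hbu]
      _ = b * (a * u) * b⁻¹ := by group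
      _ = b * (u * a) * b⁻¹ := by rw [ha.2]
      _ = u * (b * a * b⁻¹) := by
        conv_rhs => rw [← hbu]
        group
  let B : G → Prop := fun b => ∃ a, A a ∧ s * a * s⁻¹ = b
  have hBC : ∀ {b}, B b → b * z = z * b ∧ b * u = u * b := by
    rintro _ ⟨a, ha, rfl⟩
    exact hscomm (hAz ha) ha.2
  have hBconj : ∀ {b}, b * z = z * b → b * u = u * b → ∀ {y}, B y → B (b * y * b⁻¹) := by
    rintro b h1 h2 y ⟨a, ha, rfl⟩
    refine ⟨(s⁻¹ * b * s) * a * (s⁻¹ * b * s)⁻¹, hAconj ?_ ?_ ha, by group⟩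
    · calc s⁻¹ * b * s * z = s⁻¹ * (b * (s * z * s⁻¹)) * s := by group
        _ = s⁻¹ * (u * b) * s := by rw [hsz, h2]
        _ = z * (s⁻¹ * b * s) := by rw [← hsz]; group
    · calc s⁻¹ * b * s * u = s⁻¹ * (b * (s * u * s⁻¹)) * s := by group
        _ = s⁻¹ * (z * b) * s := by rw [hsu, h1]
        _ = u * (s⁻¹ * b * s) := by rw [← hsu]; group
  have hBinv : ∀ {b}, B b → B b⁻¹ := by
    rintro _ ⟨a, ha, rfl⟩
    exact ⟨a⁻¹, ⟨inv_mem ha.1, (show Commute a u from ha.2).inv_left.eq⟩, by group⟩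
  have hBmul : ∀ {x y}, B x → B y → B (x * y) := by
    rintro _ _ ⟨a, ha, rfl⟩ ⟨b, hb, rfl⟩
    exact ⟨a * b, ⟨mul_mem ha.1 hb.1, ((show Commute a u from ha.2).mul_left hb.2).eq⟩, by group⟩
  have hBsq : ∀ {b}, B b → b * b = 1 ∨ b * b = u := by
    rintro _ ⟨a, ha, rfl⟩
    rw [conj_mul]
    rcases h.extra.sq_cases ha.1 with e' | e' <;> rw [e']
    · exact Or.inl (by group)
    · exact Or.inr hsz
  -- the common part is the four-group
  let V : G → Prop := fun c => c = 1 ∨ c = z ∨ c = u ∨ c = u * z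
  have hV : ∀ {a}, A a → a * a = 1 → V a := by
    intro a ha haa
    by_cases h1 : a = 1
    · exact Or.inl h1
    by_cases h2 : a = z
    · exact Or.inr (Or.inl h2)
    exact Or.inr (Or.inr (comm_invs hp ⟨huQ, huu, hu1, huz⟩ ⟨ha.1, haa, h1, h2⟩ ha.2.symm))
  have hAB : ∀ {c}, A c → B c → V c := fun {c} hc hb => hV hc (by
    rcases h.extra.sq_cases hc.1 with e' | e'
    · exact e'
    rcases hBsq hb with e'' | e''
    · exact e''
    · exact absurd (e''.symm.trans e') huz)
  have hVcomm : ∀ {c x : G}, V c → x * z = z * x → x * u = u * x → Commute c x := by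
    rintro c x (rfl | rfl | rfl | rfl) h1 h2
    · exact Commute.one_left x
    · exact h1.symm
    · exact h2.symm
    · exact (show Commute u x from h2.symm).mul_left (show Commute z x from h1.symm)
  let c : G → G → G := fun b a => b * a * b⁻¹ * a⁻¹
  have hcV : ∀ {a b}, A a → B b → V (c b a) := by
    intro a b ha hb
    obtain ⟨h1, h2⟩ := hBC hb
    have hA' := hAconj h1 h2 ha
    refine hAB ⟨mul_mem hA'.1 (inv_mem ha.1), ((show Commute _ u from hA'.2).mul_left
      (show Commute a u from ha.2).inv_left).eq⟩ ?_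
    have := hBmul hb (hBconj (hAz ha) ha.2 (hBinv hb))
    rwa [show b * (a * b⁻¹ * a⁻¹) = c b a by simp only [c]; group] at this
  have hc_eq : ∀ {a b}, A a → B b → b * a = c b a * a * b := fun _ _ => by simp only [c]; group
  have hbad : ∀ {a b}, A a → B b → c b a ≠ u * z := by
    intro a b ha hb heq
    obtain ⟨h1, h2⟩ := hBC hb
    have haa : a * a = z := (h.extra.sq_cases ha.1).resolve_left fun e' => by
      have hcomm := hVcomm (hV ha e') h1 h2
      refine huz (mul_right_cancel (b := z) ?_)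
      rw [← heq, hzz]
      simp only [c]
      rw [← hcomm.eq]; group
    have hbb : b * b = u := (hBsq hb).resolve_left fun e' => by
      obtain ⟨a', ha', rfl⟩ := hb
      have e'' : a' * a' = 1 := by
        rw [conj_mul] at e'; exact conj_eq_one_iff.1 e'
      have hV' : V (s * a' * s⁻¹) := by
        rcases hV ha' e'' with rfl | rfl | rfl | rfl
        · exact Or.inl (by group)
        · exact Or.inr (Or.inr (Or.inl hsz))
        · exact Or.inr (Or.inl hsu)
        · refine Or.inr (Or.inr (Or.inr ?_))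
          rw [← conj_mul, hsu, hsz, h.extra.z_comm huQ]
      have hcomm := hVcomm hV' (hAz ha) ha.2
      refine huz (mul_right_cancel (b := z) ?_)
      rw [← heq, hzz]
      simp only [c]
      rw [hcomm.eq]; group
    have hcc := hVcomm (hcV ha hb) (hAz ha) ha.2
    have hsq : a * b * (a * b) = 1 := by
      calc a * b * (a * b) = a * (b * a) * b := by group
        _ = a * c b a * a * b * b := by rw [hc_eq ha hb]; group
        _ = c b a * (a * a) * (b * b) := by rw [← hcc.eq]; group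
        _ = u * (z * z) * u := by rw [heq, haa, hbb]; group
        _ = 1 := by rw [hzz, mul_one, huu]
    have habQ := hE (a * b) ((show Commute a z from hAz ha).mul_left h1).eq hsq
    have hbQ : b ∈ Q := by
      have := mul_mem (inv_mem ha.1) habQ
      rwa [inv_mul_cancel_left] at this
    rcases h.extra.sq_cases hbQ with e' | e'
    · exact hu1 (hbb.symm.trans e')
    · exact huz (hbb.symm.trans e')
  have hmulr : ∀ {a a' b}, A a → A a' → B b → c b (a * a') = c b a * c b a' := fun {a a' b} ha ha' hb => by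
    calc c b (a * a') = c b a * (a * c b a' * a⁻¹) := by simp only [c]; group
      _ = _ := by rw [← (hVcomm (hcV ha' hb) (hAz ha) ha.2).eq, mul_inv_cancel_right]
  have hmull : ∀ {a b b'}, A a → B b → B b' → c (b * b') a = c b' a * c b a := fun {a b b'} ha hb hb' => by
    calc c (b * b') a = b * c b' a * b⁻¹ * c b a := by simp only [c]; group
      _ = _ := by rw [← (hVcomm (hcV ha hb') (hBC hb).1 (hBC hb).2).eq, mul_inv_cancel_right]
  have hAmul : ∀ {a a'}, A a → A a' → A (a * a') := fun ha ha' =>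
    ⟨mul_mem ha.1 ha'.1, ((show Commute _ u from ha.2).mul_left ha'.2).eq⟩
  have hswap : ∀ {a b}, A a → B b → ∃ a' b', A a' ∧ B b' ∧ c b' a' = (s * c b a * s⁻¹)⁻¹ := by
    intro a b ha hb
    obtain ⟨a₀, ha₀, rfl⟩ := hb
    refine ⟨(s * s) * a₀ * (s * s)⁻¹, s * a * s⁻¹, hAconj ?_ ?_ ha₀, ⟨a, ha, rfl⟩, by simp only [c]; group⟩
    · calc s * s * z = s * (s * z * s⁻¹) * s := by group
        _ = s * u * s⁻¹ * (s * s) := by rw [hsz]; group
        _ = z * (s * s) := by rw [hsu]
    · calc s * s * u = s * (s * u * s⁻¹) * s := by group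
        _ = s * z * s⁻¹ * (s * s) := by rw [hsu]; group
        _ = u * (s * s) := by rw [hsz]
  have huinv : u⁻¹ = u := inv_eq_of_mul_eq_one_right huu
  have hboth : ∀ {a a' b b'}, A a → A a' → B b → B b' → c b a = z → c b' a' = u → False := by
    intro a a' b b' ha ha' hb hb' e1 e2
    have k1 : c b a' ≠ u := fun e' => hbad (hAmul ha ha') hb (by
      rw [hmulr ha ha' hb, e1, e', h.extra.z_comm huQ])
    have k2 : c b' a ≠ u := fun e' => hbad ha (hBmul hb hb') (by rw [hmull ha hb hb', e1, e'])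
    have k3 : c b a' ≠ z := fun e' => hbad ha' (hBmul hb hb') (by rw [hmull ha' hb hb', e2, e'])
    have k4 : c b' a ≠ z := fun e' => hbad (hAmul ha ha') hb' (by
      rw [hmulr ha ha' hb', e2, e', h.extra.z_comm huQ])
    have v1 : c b a' = 1 := by
      rcases hcV ha' hb with e' | e' | e' | e'
      exacts [e', absurd e' k3, absurd e' k1, absurd e' (hbad ha' hb)]
    have v2 : c b' a = 1 := by
      rcases hcV ha hb' with e' | e' | e' | e'
      exacts [e', absurd e' k4, absurd e' k2, absurd e' (hbad ha hb')]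
    refine hbad (hAmul ha ha') (hBmul hb hb') ?_
    rw [hmulr ha ha' (hBmul hb hb'), hmull ha hb hb', hmull ha' hb hb', v1, v2, e1, e2, one_mul, mul_one,
      h.extra.z_comm huQ]
  have hcomm : ∀ {a b}, A a → B b → b * a * b⁻¹ = a := by
    intro a b ha hb
    obtain ⟨a', b', ha', hb', e'⟩ := hswap ha hb
    rcases hcV ha hb with e1 | e1 | e1 | e1
    · exact mul_inv_eq_one.1 e1
    · rw [e1, hsz, huinv] at e'
      exact (hboth ha ha' hb hb' e1 e').elim
    · rw [e1, hsu, h.extra.inv_z] at e'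
      exact (hboth ha' ha hb' hb e' e1).elim
    · exact absurd e1 (hbad ha hb)
  -- an element of order four of the second group centralises `Q`
  obtain ⟨a₁, ha₁Q, a₂, ha₂Q, ha₁, ha₂, hne⟩ := exists_noncomm h.extra h.card_Q huQ
  obtain ⟨a₀, ha₀, hsq₀⟩ : ∃ a₀, A a₀ ∧ a₀ * a₀ = z := by
    by_contra hcon
    push Not at hcon
    have hone : ∀ {a}, A a → a * a = 1 := fun {a} ha => (h.extra.sq_cases ha.1).resolve_right (hcon a ha)
    exact hne (comm_of_sq (hone ⟨ha₁Q, ha₁⟩) (hone ⟨ha₂Q, ha₂⟩) (hone (hAmul ⟨ha₁Q, ha₁⟩ ⟨ha₂Q, ha₂⟩)))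
  obtain ⟨b, hb_def⟩ : ∃ b, b = s * a₀ * s⁻¹ := ⟨_, rfl⟩
  have hb : B b := ⟨a₀, ha₀, hb_def.symm⟩
  obtain ⟨hbz, hbu⟩ := hBC hb
  have hbb : b * b = u := by rw [hb_def, conj_mul, hsq₀, hsz]
  have hbQ : b ∉ Q := fun hbQ => by
    rcases h.extra.sq_cases hbQ with e' | e'
    · exact hu1 (hbb.symm.trans e')
    · exact huz (hbb.symm.trans e')
  obtain ⟨x, hxQ', hx⟩ := h.extra.exists_conj_eq huQ hu1 huz
  have hflip : ∀ {y}, y ∈ Q → ¬ A y → A (y * x) := fun {y} hy hyu => by
    refine ⟨mul_mem hy hxQ', mul_inv_eq_iff_eq_mul.1 ?_⟩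
    have hy' := h.extra.conj_eq_of_not_comm huQ hy fun e' => hyu ⟨hy, e'⟩
    calc y * x * u * (y * x)⁻¹ = y * (x * u * x⁻¹) * y⁻¹ := by group
      _ = y * u * y⁻¹ * (y * z * y⁻¹) := by rw [hx]; group
      _ = u := by rw [hy', ← h.extra.z_comm hy, mul_inv_cancel_right, mul_assoc, hzz, mul_one]
  have hfin : ∀ {r : G}, r * z = z * r → (∀ a, A a → r * a * r⁻¹ = a) → r * x * r⁻¹ = x → r ∈ Q := by
    intro r hr hA' hrx
    refine h.cent_le r (h.mem_C.2 hr) fun y hy => ?_
    by_cases hyA : A y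
    · exact hA' y hyA
    have e' := hA' _ (hflip hy hyA)
    rw [← conj_mul, hrx] at e'
    exact mul_right_cancel e'
  obtain ⟨d, hd⟩ : ∃ d, d = x⁻¹ * (b * x * b⁻¹) := ⟨_, rfl⟩
  have hdQ : d ∈ Q := hd ▸ mul_mem (inv_mem hxQ') (h.norm b (h.mem_C.2 hbz) x hxQ')
  have hdA : ∀ a, A a → d * a = a * d := by
    intro a ha
    have ha' : A (x * a * x⁻¹) := by
      refine ⟨mul_mem (mul_mem hxQ' ha.1) (inv_mem hxQ'), ?_⟩
      rcases h.extra.conj_cases ha.1 hxQ' with e' | e' <;> rw [e']
      · exact ha.2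
      · exact ((show Commute a u from ha.2).mul_left (h.extra.z_comm huQ)).eq
    apply mul_inv_eq_iff_eq_mul.1
    calc d * a * d⁻¹ = x⁻¹ * ((b * x * b⁻¹) * a * (b * x * b⁻¹)⁻¹) * x := by rw [hd]; group
      _ = x⁻¹ * ((b * x * b⁻¹) * (b * a * b⁻¹) * (b * x * b⁻¹)⁻¹) * x := by rw [hcomm ha hb]
      _ = x⁻¹ * (b * (x * a * x⁻¹) * b⁻¹) * x := by group
      _ = a := by rw [hcomm ha' hb]; group
  have hxu : x * u = u * x * z := by
    rw [mul_inv_eq_iff_eq_mul] at hx
    rw [hx, mul_assoc, h.extra.z_comm hxQ', ← mul_assoc]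
  have hdV : d = 1 ∨ d = z ∨ d = u ∨ d = u * z := by
    by_cases hdx : d * x = x * d
    · refine (h.extra.mem_center_cases hdQ fun y hy => ?_).imp id Or.inl
      by_cases hyA : A y
      · exact hdA y hyA
      have e' := hdA _ (hflip hy hyA)
      rw [← mul_assoc, mul_assoc y x d, ← hdx, ← mul_assoc] at e'
      exact mul_right_cancel e'
    · have hdu : d * u * x = x * (d * u) := by
        have e1 := h.extra.conj_eq_of_not_comm hxQ' hdQ hdx
        rw [mul_inv_eq_iff_eq_mul] at e1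
        have e2 : u * x = x * u * z := by
          rw [hxu, mul_assoc, hzz, mul_one]
        calc d * u * x = d * (x * u * z) := by rw [mul_assoc, e2]
          _ = d * x * (u * z) := by group
          _ = x * (z * d) * (u * z) := by rw [e1]; group
          _ = x * d * (z * u) * z := by rw [h.extra.z_comm hdQ]; group
          _ = x * (d * u) := by rw [h.extra.z_comm huQ]; simp only [mul_assoc, hzz, mul_one]
      have : d * u = 1 ∨ d * u = z := by
        refine h.extra.mem_center_cases (mul_mem hdQ huQ) fun y hy => ?_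
        have hA' : ∀ a, A a → d * u * a = a * (d * u) := fun a ha =>
          ((show Commute d a from hdA a ha).mul_left (show Commute a u from ha.2).symm).eq
        by_cases hyA : A y
        · exact hA' y hyA
        have e' := hA' _ (hflip hy hyA)
        rw [← mul_assoc, mul_assoc y x (d * u), ← hdu, ← mul_assoc] at e'
        exact mul_right_cancel e'
      rcases this with e' | e'
      · exact Or.inr (Or.inr (Or.inl (by rw [mul_eq_one_iff_eq_inv.1 e', huinv])))
      · exact Or.inr (Or.inr (Or.inr (by rw [← h.extra.z_comm huQ, ← e', mul_assoc, huu, mul_one])))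
  have hbx : b * x * b⁻¹ = x * d := by rw [hd]; group
  have hsquare : b * x * b⁻¹ * (b * x * b⁻¹) = x * x := by
    rw [conj_mul]
    rcases h.extra.sq_cases hxQ' with e' | e' <;> rw [e']
    · group
    · rw [hbz, mul_inv_cancel_right]
  rcases hdV with e' | e' | e' | e'
  · exact hbQ (hfin hbz (fun a ha => hcomm ha hb) (by rw [hbx, e', mul_one]))
  · refine hbQ ?_
    have hubQ : u * b ∈ Q := by
      refine hfin ((show Commute u z from hgc.symm).mul_left hbz).eq (fun a ha => ?_) ?_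
      · calc u * b * a * (u * b)⁻¹ = u * (b * a * b⁻¹) * u⁻¹ := by group
          _ = a := by rw [hcomm ha hb, ← ha.2, mul_inv_cancel_right]
      · calc u * b * x * (u * b)⁻¹ = u * (b * x * b⁻¹) * u⁻¹ := by group
          _ = u * x * z * u := by rw [hbx, e', huinv]; group
          _ = x * u * (z * z) * u := by
              rw [show u * x = x * u * z by rw [hxu, mul_assoc, hzz, mul_one]]; group
          _ = x := by rw [hzz, mul_one, mul_assoc, huu, mul_one]
    have := mul_mem huQ hubQ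
    rwa [← mul_assoc, huu, one_mul] at this
  all_goals
    rw [hbx, e'] at hsquare
    refine h.extra.z_ne ?_
    have e2 : x * u * (x * u) = x * x * z := by
      calc x * u * (x * u) = x * u * (u * x * z) := by rw [← hxu]
        _ = x * (u * u) * x * z := by group
        _ = x * x * z := by rw [huu, mul_one]
  · rw [e2] at hsquare
    exact mul_eq_left.1 hsquare
  · rw [show x * (u * z) * (x * (u * z)) = x * u * (z * x * u) * z by group, h.extra.z_comm hxQ',
      mul_assoc x z u, h.extra.z_comm huQ, show x * u * (x * (u * z)) * z = x * u * (x * u) * (z * z) by group,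
      hzz, mul_one, e2] at hsquare
    exact mul_eq_left.1 hsquare

theorem Hyp.base [IsSimpleGroup G] (h : Hyp Q C z) : CfsgLib.Characterizations.HallJanko.Base Q C z where
  extra := h.extra
  card_Q := h.card_Q
  le := h.le
  norm := h.norm
  cent := fun c hc => h.mem_C.1 hc
  cent_le := h.cent_le
  quot := h.quot
  outer := h.exists_outer

end CfsgLib.SmallGroups.J3Order
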