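import Mathlib

/-!
# The finite searches behind the order of the third Janko group
-/

set_option autoImplicit false

namespace CfsgLib.SmallGroups.J3Order.Search

/-- A vector of six integers. -/
abbrev Vec := List ℤ

/-- `128` times the inverse of the Gram matrix. -/
def hMat : List Vec := [[28, -8, -22, -16, -14, 12], [-8, 64, 28, 32, -4, -8], [-22, 28, 59, 40, 15, -14],
  [-16, 32, 40, 64, 8, -16], [-14, -4, 15, 8, 35, -6], [12, -8, -14, -16, -6, 28]]

/-- The standard product. -/
def dot : Vec → Vec → ℤ
  | a :: l, b :: m => a * b + dot l m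
  | _, _ => 0

/-- The image under the scaled inverse of the Gram matrix. -/
def hmul (v : Vec) : Vec := hMat.map fun r => dot r v

/-- The sum of two vectors. -/
def vadd : Vec → Vec → Vec
  | a :: l, b :: m => (a + b) :: vadd l m
  | _, _ => []

/-- The difference of two vectors. -/
def vsub : Vec → Vec → Vec
  | a :: l, b :: m => (a - b) :: vsub l m
  | _, _ => []

/-- A multiple of a vector. -/
def smul (c : ℤ) (v : Vec) : Vec := v.map (c * ·)

/-- The multiplicities of the trivial character. -/
def trVec : Vec := [0, 0, 1, 0, 0, 1]

/-- The bounds on the coordinates of a nontrivial character. -/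
def bound : List ℕ := [2, 1, 2, 2, 2, 2]

/-- Membership in the box. -/
def inBox (v : Vec) : Bool := v.length == 6 && (v.zip bound).all fun p => p.1.natAbs ≤ p.2

/-- The integers of absolute value at most `b`. -/
def seg (b : ℕ) : List ℤ := (List.range (2 * b + 1)).map fun i => (i : ℤ) - b

/-- The box. -/
def box : List Vec :=
  (seg 2).flatMap fun a => (seg 1).flatMap fun b => (seg 2).flatMap fun c => (seg 2).flatMap fun d =>
    (seg 2).flatMap fun e => (seg 2).map fun f => [a, b, c, d, e, f]

/-- The projection inequality for one vector. -/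
def fit1 (v : Vec) : Bool :=
  let z := hmul v
  dot z v * dot z v + dot z trVec * dot z trVec ≤ 128 * dot z v

/-- The thirteen coefficient vectors of the projection inequality for three vectors. -/
def coeffs : List (ℤ × ℤ × ℤ) :=
  [(1, 0, 0), (0, 1, 0), (0, 0, 1), (1, 1, 0), (1, -1, 0), (1, 0, 1), (1, 0, -1), (0, 1, 1), (0, 1, -1),
    (1, 1, 1), (1, 1, -1), (1, -1, 1), (1, -1, -1)]

/-- The projection inequalities for three vectors. -/
def fit3 (x y z : Vec) : Bool :=
  coeffs.all fun a =>
    let v := vadd (smul a.1 x) (vadd (smul a.2.1 y) (smul a.2.2 z))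
    let h := hmul v
    dot h x * dot h x + dot h y * dot h y + dot h z * dot h z + dot h trVec * dot h trVec ≤ 128 * dot h v

/-- The value at the involution. -/
def vX (v : Vec) : ℤ := dot [2, -20, -9, -24, -5, 10] v

/-- The square of the value at the involution and the residue of the signed degree. -/
def keyOf (v : Vec) : ℤ × ℤ :=
  (vX v * vX v, (-(35 * vX v + 44 * dot [-2, 4, 3, 0, -1, -2] v + 48 * dot [0, 0, 1, 0, 1, 0] v)) % 128)

/-- A key. -/
abbrev Key := (ℤ × ℤ) × (ℤ × ℤ) × (ℤ × ℤ)

/-- Membership of a triple of pairs in a list of keys up to order. -/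
def inKeys (K : List Key) (a b c : ℤ × ℤ) : Bool :=
  K.any fun k => k == (a, b, c) || k == (a, c, b) || k == (b, a, c) || k == (b, c, a) || k == (c, a, b) || k == (c, b, a)

/-- The candidates for one character. -/
def cands (C : Vec) : List Vec := box.filter fun v => dot C v == 1 && fit1 v

/-- All triples starting with `x` and taken in the order of the list have listed keys. -/
def triplesFrom (tgt : Vec) (K : List Key) (x : Vec) : List Vec → Bool
  | [] => true
  | y :: m =>
    (let z := vsub (vsub tgt x) y
     !((y :: m).contains z) || !(fit3 x y z) || inKeys K (keyOf x) (keyOf y) (keyOf z)) && triplesFrom tgt K x m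

/-- All triples of candidates in the order of the list have listed keys. -/
def triplesOK (tgt : Vec) (K : List Key) : List Vec → Bool
  | [] => true
  | x :: l => triplesFrom tgt K x (x :: l) && triplesOK tgt K l

/-- The integers congruent to `r` modulo `128` of absolute value at most `L`. -/
def prog (r : ℤ) (L : ℕ) : List ℤ :=
  let first := -(L : ℤ) + (r + L) % 128
  ((List.range (2 * L / 128 + 1)).map fun k : ℕ => first + 128 * (k : ℤ)).filter fun x => decide (x ≤ (L : ℤ))

/-- The possible orders after the first search. -/
def orders : List ℕ := [3158400, 6894720, 8400000, 10396800, 23667840, 25680000, 35349120, 38482560, 50232960,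
  67267200, 80438400, 129467520, 214680960, 220521600, 233654400, 570729600, 901968000, 2084880000, 3684078720,
  3940944000, 4224566400, 4759655040, 19444752000, 30758659200, 33529680000, 53974800000, 163443619200,
  423300240000]

/-- The numerator of `1 + ∑ c / x`. -/
def num1 (a b c x y z : ℤ) : ℤ := x * y * z + a * (y * z) + b * (x * z) + c * (x * y)

/-- An order determined by three signed degrees is listed. -/
def chk1 (a b c x y z : ℤ) : Bool :=
  let N := num1 a b c x y z
  let M := 29184000 * (x * y * z)
  if N == 0 then true else if M % N != 0 then true else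
    let g := M / N
    decide (g ≤ 0) || g % 1920 != 0 || g % 256 == 0 || g % x != 0 || g % y != 0 || g % z != 0 ||
      decide (g < x * x) || decide (g < y * y) || decide (g < z * z) || orders.contains g.natAbs

/-- An admissible signed degree. -/
def adm (p : ℤ × ℤ) (x : ℤ) : Bool := decide (2 ≤ x.natAbs) && decide (p.1 ≤ x * x) && (x - p.2) % 128 == 0

/-- The scan of a quadratic sequence for divisors of `W`; values are shifted by `S`. -/
noncomputable def scan (W E S : ℕ) (full : ℕ → Bool) (n : ℕ) : ℕ → ℕ → Bool :=
  Nat.rec (fun _ _ => true)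
    (fun m ih N D =>
      Bool.rec false
        (Bool.rec (Bool.rec false (ih (Nat.sub (Nat.add N D) S) (Nat.sub (Nat.add D E) S)) (full m))
          (ih (Nat.sub (Nat.add N D) S) (Nat.sub (Nat.add D E) S))
          (Nat.ble 1 (Nat.mod W (Nat.add (Nat.sub N S) (Nat.sub S N)))))
        (Bool.rec false (Nat.ble S (Nat.add D E)) (Nat.ble S (Nat.add N D)))) n

/-- The second signed degree runs through a residue class in an interval. -/
noncomputable def scanRange (p q r : ℤ × ℤ) (x lo hi : ℤ) : Bool :=
  let first := lo + (q.2 - lo) % 128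
  if hi < first then true else
    let n := ((hi - first) / 128).toNat + 1
    let s := -1 - x
    let N := (x + p.1) * first * (s - first) + q.1 * x * (s - first) + r.1 * x * first
    let D := (x + p.1) * (128 * s - 256 * first - 16384) + 128 * x * (r.1 - q.1)
    let E := -32768 * (x + p.1)
    let S : ℤ := 2 ^ 100
    decide (0 ≤ N + S) && decide (0 ≤ D + S) && decide (0 ≤ E + S) &&
      scan (29184000 * x * s).natAbs (E + S).toNat S.toNat
        (fun m => let y := first + 128 * ((n - 1 - m : ℕ) : ℤ)
          !(adm q y) || !(adm r (s - y)) || chk1 p.1 q.1 r.1 x y (s - y))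
        n (N + S).toNat (D + S).toNat

/-- All three signed degrees are large. -/
noncomputable def caseA (k : Key) : Bool :=
  let C := (k.1.1 + k.2.1.1 + k.2.2.1).natAbs
  (prog k.1.2 7640).all fun x => decide (x.natAbs < 2 * C) || !(adm k.1 x) ||
    scanRange k.1 k.2.1 k.2.2 x (max (-7640) (-1 - x - 7640)) (min 7640 (-1 - x + 7640))

/-- An upper square root, found by Newton's iteration. -/
def usqrt : ℕ → ℕ → ℕ → ℕ
  | 0, _, s => s + 1
  | f + 1, m, s =>
    let t := (s + m / s) / 2
    if t < s then usqrt f m t else s + 1

/-- The first signed degree is small. -/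
noncomputable def caseB (p q r : ℤ × ℤ) : Bool :=
  let C := (p.1 + q.1 + r.1).natAbs
  (prog p.2 (2 * C)).all fun x => !(adm p x) ||
    if x + p.1 == 0 then false else
      let D := (x + p.1).natAbs
      let cc := (q.1 + r.1).natAbs
      let pos := decide (0 < (x + p.1) * x)
      let M := 2 * 29184000 * x.natAbs / D
      let B := if pos then max (usqrt 64 M (M + 1)) (2 * cc * x.natAbs / D) else cc * x.natAbs / D
      decide (M < B * B || !pos) && scanRange p q r x (-(B : ℤ)) B && scanRange p r q x (-(B : ℤ)) B

/-- The first search for one key. -/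
noncomputable def searchKey (k : Key) : Bool :=
  caseA k && caseB k.1 k.2.1 k.2.2 && caseB k.2.1 k.1 k.2.2 && caseB k.2.2 k.1 k.2.1

/-- The divisors of a product of prime powers. -/
def divs : List (ℕ × ℕ) → List ℕ
  | [] => [1]
  | p :: l => (List.range (p.2 + 1)).flatMap fun i => (divs l).map fun d => p.1 ^ i * d

/-- Sorting integers by their residue modulo `2 ^ k`. -/
def buckets : ℕ → List ℤ → List (List ℤ)
  | 0, l => [l]
  | k + 1, l => buckets k (l.filter fun x => x % (2 ^ (k + 1) : ℤ) < (2 ^ k : ℤ)) ++
      buckets k (l.filter fun x => !decide (x % (2 ^ (k + 1) : ℤ) < (2 ^ k : ℤ)))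

/-- The signed degrees allowed for an order. -/
def signed (g : ℕ) (f : List (ℕ × ℕ)) : List ℤ :=
  ((divs f).filter fun d => decide (d * d ≤ g)).flatMap fun d => [(d : ℤ), -(d : ℤ)]

/-- The second search for one key and one order. -/
def searchKey2 (g : ℕ) (B : List (List ℤ)) (k : Key) : Bool :=
  (B.getD k.1.2.natAbs []).all fun x => !(adm k.1 x) ||
    (B.getD k.2.1.2.natAbs []).all fun y =>
      let z := -x - y
      !(adm k.2.1 y) || !(adm k.2.2 z) || (g : ℤ) % z != 0 || decide ((g : ℤ) < z * z) ||
        (g : ℤ) * (k.1.1 * (y * z) + k.2.1.1 * (x * z) + k.2.2.1 * (x * y)) != 614400 * (x * y * z) || g == 50232960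

/-- The second search for one order. -/
def searchOrder (g : ℕ) (f : List (ℕ × ℕ)) (K : List Key) : Bool :=
  let B := buckets 7 (signed g f)
  K.all (searchKey2 g B)

end CfsgLib.SmallGroups.J3Order.Search
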