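import Cfsg.Agent.Lib.SmallGroups.J3Order.SearchDefs

/-!
# The keys of the searches
-/

set_option autoImplicit false
set_option maxRecDepth 100000

namespace CfsgLib.SmallGroups.J3Order.Search

/-- The keys of the first generalised character. -/
def keys1 : List Key := [
  ((1, 1), (144, 116), (1444, 10)),
  ((1, 1), (225, 49), (1225, 77)),
  ((1, 1), (289, 47), (1089, 79)),
  ((1, 1), (324, 30), (1024, 96)),
  ((1, 1), (361, 29), (961, 97)),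
  ((1, 1), (400, 108), (900, 18)),
  ((1, 1), (484, 90), (784, 36)),
  ((4, 110), (81, 7), (1444, 10)),
  ((4, 110), (144, 68), (1225, 77)),
  ((4, 110), (196, 66), (1089, 79)),
  ((4, 110), (225, 49), (1024, 96)),
  ((4, 110), (289, 127), (900, 18)),
  ((4, 110), (400, 12), (729, 5)),
  ((4, 110), (484, 90), (625, 55)),
  ((4, 110), (484, 122), (625, 23)),
  ((4, 110), (529, 73), (576, 72)),
  ((9, 19), (196, 98), (1444, 10)),
  ((9, 19), (289, 31), (1225, 77)),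
  ((9, 19), (361, 29), (1089, 79)),
  ((9, 19), (400, 12), (1024, 96)),
  ((9, 19), (484, 90), (900, 18)),
  ((9, 19), (576, 72), (784, 36)),
  ((9, 93), (196, 66), (1024, 96)),
  ((9, 93), (361, 29), (729, 5)),
  ((9, 93), (441, 11), (625, 23)),
  ((9, 93), (484, 90), (576, 72)),
  ((16, 92), (49, 25), (1444, 10)),
  ((16, 92), (100, 86), (1225, 77)),
  ((16, 92), (144, 84), (1089, 79)),
  ((16, 92), (169, 67), (1024, 96)),
  ((16, 92), (196, 66), (961, 97)),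
  ((16, 92), (289, 127), (784, 36)),
  ((16, 92), (324, 30), (729, 5)),
  ((16, 92), (400, 12), (625, 23)),
  ((16, 92), (400, 108), (625, 55)),
  ((16, 92), (441, 91), (576, 72)),
  ((16, 92), (484, 90), (529, 73)),
  ((25, 43), (81, 7), (1225, 77)),
  ((25, 43), (100, 6), (1156, 78)),
  ((25, 43), (121, 5), (1089, 79)),
  ((25, 43), (144, 116), (1024, 96)),
  ((25, 43), (196, 66), (900, 18)),
  ((25, 43), (361, 29), (625, 55)),
  ((25, 43), (400, 12), (576, 72)),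
  ((25, 43), (441, 11), (529, 73)),
  ((25, 43), (484, 90), (484, 122)),
  ((25, 75), (144, 84), (1024, 96)),
  ((25, 75), (289, 47), (729, 5)),
  ((25, 75), (361, 29), (625, 23)),
  ((25, 75), (484, 90), (484, 90)),
  ((36, 86), (400, 92), (1225, 77)),
  ((36, 86), (441, 91), (1156, 78)),
  ((36, 86), (484, 90), (1089, 79)),
  ((36, 86), (529, 73), (1024, 96)),
  ((36, 86), (625, 23), (900, 18)),
  ((36, 86), (625, 55), (900, 114)),
  ((36, 86), (729, 5), (784, 36)),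
  ((49, 25), (49, 25), (1225, 77)),
  ((49, 25), (81, 23), (1089, 79)),
  ((49, 25), (100, 6), (1024, 96)),
  ((49, 25), (144, 84), (900, 18)),
  ((49, 25), (196, 66), (784, 36)),
  ((49, 25), (225, 97), (729, 5)),
  ((49, 25), (289, 31), (625, 71)),
  ((49, 25), (289, 47), (625, 55)),
  ((49, 25), (324, 30), (576, 72)),
  ((49, 25), (361, 29), (529, 73)),
  ((49, 25), (400, 12), (484, 90)),
  ((64, 24), (81, 7), (1024, 96)),
  ((64, 24), (196, 98), (729, 5)),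
  ((64, 24), (289, 31), (576, 72)),
  ((64, 24), (400, 92), (441, 11)),
  ((81, 7), (81, 23), (961, 97)),
  ((81, 7), (100, 6), (900, 114)),
  ((81, 7), (144, 84), (784, 36)),
  ((81, 7), (225, 49), (625, 71)),
  ((81, 7), (225, 97), (625, 23)),
  ((81, 7), (289, 47), (529, 73)),
  ((81, 7), (324, 30), (484, 90)),
  ((81, 7), (361, 29), (441, 91)),
  ((81, 7), (400, 12), (400, 108)),
  ((81, 23), (100, 86), (900, 18)),
  ((81, 23), (144, 68), (784, 36)),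
  ((81, 23), (169, 99), (729, 5)),
  ((81, 23), (225, 49), (625, 55)),
  ((81, 23), (289, 31), (529, 73)),
  ((81, 23), (400, 12), (400, 92)),
  ((100, 6), (144, 116), (729, 5)),
  ((100, 6), (196, 98), (625, 23)),
  ((100, 6), (225, 49), (576, 72)),
  ((100, 6), (289, 31), (484, 90)),
  ((100, 6), (361, 29), (400, 92)),
  ((100, 86), (121, 5), (784, 36)),
  ((100, 86), (196, 98), (625, 71)),
  ((100, 86), (225, 97), (576, 72)),
  ((100, 86), (289, 47), (484, 122)),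
  ((100, 86), (361, 29), (400, 12)),
  ((121, 5), (169, 99), (625, 23)),
  ((121, 5), (225, 49), (529, 73)),
  ((144, 68), (144, 116), (625, 71)),
  ((144, 68), (225, 97), (484, 90)),
  ((144, 68), (289, 47), (400, 12)),
  ((144, 68), (324, 30), (361, 29)),
  ((144, 84), (144, 116), (625, 55)),
  ((144, 84), (169, 99), (576, 72)),
  ((144, 84), (196, 98), (529, 73)),
  ((144, 84), (225, 49), (484, 122)),
  ((144, 84), (289, 31), (400, 12)),
  ((144, 116), (144, 116), (625, 23)),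
  ((144, 116), (169, 67), (576, 72)),
  ((144, 116), (196, 66), (529, 73)),
  ((144, 116), (225, 49), (484, 90)),
  ((144, 116), (289, 47), (400, 92)),
  ((144, 116), (289, 127), (400, 12)),
  ((169, 67), (289, 31), (361, 29)),
  ((169, 99), (196, 66), (484, 90)),
  ((169, 99), (289, 127), (361, 29)),
  ((196, 66), (196, 98), (441, 91)),
  ((196, 66), (225, 49), (400, 12)),
  ((196, 66), (225, 97), (400, 92)),
  ((196, 66), (289, 31), (324, 30)),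
  ((196, 98), (225, 49), (400, 108)),
  ((196, 98), (289, 127), (324, 30)),
  ((225, 49), (225, 49), (361, 29)),
  ((225, 49), (289, 31), (289, 47)),
  ((225, 97), (289, 31), (289, 127))]

/-- The keys of the second generalised character. -/
def keys2 : List Key := [
  ((1, 1), (4, 50), (1225, 77)),
  ((1, 1), (9, 109), (900, 18)),
  ((1, 1), (25, 91), (784, 36)),
  ((1, 1), (64, 56), (625, 71)),
  ((1, 1), (64, 72), (625, 55)),
  ((1, 1), (100, 6), (529, 121)),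
  ((1, 1), (121, 5), (484, 122)),
  ((1, 1), (144, 116), (441, 11)),
  ((1, 1), (169, 115), (400, 12)),
  ((1, 1), (225, 97), (324, 30)),
  ((1, 111), (1, 127), (900, 18)),
  ((1, 111), (9, 109), (784, 36)),
  ((1, 111), (16, 68), (1225, 77)),
  ((1, 111), (36, 74), (625, 71)),
  ((1, 111), (64, 72), (529, 73)),
  ((1, 111), (100, 6), (441, 11)),
  ((1, 111), (121, 5), (400, 12)),
  ((1, 111), (169, 115), (324, 30)),
  ((1, 111), (225, 97), (256, 48)),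
  ((1, 127), (4, 50), (1089, 79)),
  ((1, 127), (9, 93), (784, 36)),
  ((1, 127), (25, 75), (676, 54)),
  ((1, 127), (36, 74), (625, 55)),
  ((1, 127), (64, 8), (529, 121)),
  ((1, 127), (64, 56), (529, 73)),
  ((1, 127), (81, 7), (484, 122)),
  ((1, 127), (121, 117), (400, 12)),
  ((1, 127), (169, 99), (324, 30)),
  ((4, 50), (9, 109), (961, 97)),
  ((4, 50), (16, 68), (1444, 10)),
  ((4, 50), (36, 42), (784, 36)),
  ((4, 50), (64, 24), (676, 54)),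
  ((4, 50), (81, 7), (625, 71)),
  ((4, 50), (100, 6), (576, 72)),
  ((4, 50), (121, 5), (529, 73)),
  ((4, 50), (169, 67), (441, 11)),
  ((4, 50), (169, 115), (441, 91)),
  ((4, 50), (196, 66), (400, 12)),
  ((4, 50), (256, 48), (324, 30)),
  ((9, 93), (9, 109), (676, 54)),
  ((9, 93), (16, 92), (625, 71)),
  ((9, 93), (25, 91), (576, 72)),
  ((9, 93), (36, 42), (529, 121)),
  ((9, 93), (36, 86), (1225, 77)),
  ((9, 93), (64, 24), (441, 11)),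
  ((9, 93), (64, 72), (441, 91)),
  ((9, 93), (81, 25), (1444, 10)),
  ((9, 93), (121, 5), (324, 30)),
  ((9, 93), (169, 115), (256, 48)),
  ((9, 93), (196, 66), (225, 97)),
  ((9, 109), (16, 68), (1089, 79)),
  ((9, 109), (16, 92), (625, 55)),
  ((9, 109), (25, 75), (576, 72)),
  ((9, 109), (36, 74), (529, 73)),
  ((9, 109), (64, 56), (441, 91)),
  ((9, 109), (81, 7), (400, 12)),
  ((9, 109), (121, 117), (324, 30)),
  ((9, 109), (169, 99), (256, 48)),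
  ((16, 68), (36, 42), (900, 18)),
  ((16, 68), (64, 24), (784, 36)),
  ((16, 68), (100, 6), (676, 54)),
  ((16, 68), (121, 5), (625, 55)),
  ((16, 68), (169, 67), (529, 121)),
  ((16, 68), (169, 115), (529, 73)),
  ((16, 68), (196, 66), (484, 122)),
  ((16, 68), (225, 49), (441, 11)),
  ((16, 68), (256, 48), (400, 12)),
  ((16, 68), (324, 30), (324, 30)),
  ((16, 92), (25, 91), (529, 73)),
  ((16, 92), (36, 42), (484, 122)),
  ((16, 92), (64, 24), (400, 12)),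
  ((16, 92), (100, 6), (324, 30)),
  ((16, 92), (144, 116), (256, 48)),
  ((16, 92), (169, 67), (225, 97)),
  ((16, 92), (169, 115), (225, 49)),
  ((25, 75), (36, 42), (441, 11)),
  ((25, 75), (121, 5), (256, 48)),
  ((25, 75), (169, 115), (196, 66)),
  ((25, 91), (36, 74), (441, 91)),
  ((25, 91), (36, 86), (1089, 79)),
  ((25, 91), (81, 7), (324, 30)),
  ((25, 91), (169, 99), (196, 66)),
  ((36, 42), (36, 74), (400, 12)),
  ((36, 42), (49, 7), (1089, 79)),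
  ((36, 42), (64, 56), (324, 30)),
  ((36, 42), (81, 7), (289, 79)),
  ((36, 42), (121, 117), (225, 97)),
  ((36, 42), (169, 99), (169, 115)),
  ((36, 74), (64, 24), (324, 30)),
  ((36, 74), (81, 105), (1225, 77)),
  ((36, 74), (100, 6), (256, 48)),
  ((36, 74), (121, 5), (225, 49)),
  ((36, 74), (144, 44), (1444, 10)),
  ((36, 74), (144, 116), (196, 66)),
  ((36, 74), (169, 67), (169, 115)),
  ((36, 86), (64, 24), (900, 18)),
  ((36, 86), (144, 116), (676, 54)),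
  ((36, 86), (169, 115), (625, 55)),
  ((36, 86), (225, 49), (529, 121)),
  ((36, 86), (324, 30), (400, 12)),
  ((49, 7), (64, 24), (961, 97)),
  ((49, 7), (169, 67), (676, 54)),
  ((49, 7), (196, 66), (625, 55)),
  ((49, 7), (225, 49), (576, 72)),
  ((49, 7), (256, 48), (529, 73)),
  ((49, 7), (324, 30), (441, 91)),
  ((64, 8), (121, 5), (169, 115)),
  ((64, 24), (81, 7), (225, 97)),
  ((64, 24), (81, 25), (1089, 79)),
  ((64, 24), (121, 5), (169, 99)),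
  ((64, 24), (121, 117), (169, 115)),
  ((64, 56), (100, 6), (196, 66)),
  ((64, 56), (121, 5), (169, 67)),
  ((64, 56), (196, 62), (1444, 10)),
  ((64, 72), (81, 7), (225, 49)),
  ((64, 72), (81, 105), (1089, 79)),
  ((64, 72), (121, 117), (169, 67)),
  ((81, 7), (100, 6), (169, 115)),
  ((81, 7), (121, 5), (144, 116)),
  ((81, 7), (144, 44), (1225, 77)),
  ((81, 25), (225, 49), (676, 54)),
  ((81, 25), (324, 30), (529, 73)),
  ((81, 105), (121, 5), (900, 18)),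
  ((81, 105), (169, 115), (784, 36)),
  ((81, 105), (225, 97), (676, 54)),
  ((81, 105), (289, 79), (576, 72)),
  ((81, 105), (324, 30), (529, 121)),
  ((81, 105), (400, 12), (441, 11)),
  ((100, 6), (121, 5), (121, 117)),
  ((121, 5), (144, 44), (1089, 79)),
  ((121, 117), (196, 62), (1225, 77)),
  ((144, 44), (196, 66), (900, 18)),
  ((144, 44), (256, 48), (784, 36)),
  ((144, 44), (324, 30), (676, 54)),
  ((144, 44), (400, 12), (576, 72)),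
  ((144, 44), (441, 11), (529, 73)),
  ((144, 44), (441, 91), (529, 121)),
  ((169, 115), (196, 62), (1089, 79)),
  ((196, 62), (225, 97), (961, 97)),
  ((196, 62), (256, 48), (900, 18)),
  ((196, 62), (324, 30), (784, 36)),
  ((196, 62), (400, 12), (676, 54)),
  ((196, 62), (441, 11), (625, 55)),
  ((196, 62), (484, 122), (576, 72)),
  ((196, 62), (529, 73), (529, 121))]

/-- The prime factorisations of the possible orders. -/
def factors : List (List (ℕ × ℕ)) := [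
  [(2, 7), (3, 1), (5, 2), (7, 1), (47, 1)],
  [(2, 7), (3, 4), (5, 1), (7, 1), (19, 1)],
  [(2, 7), (3, 1), (5, 5), (7, 1)],
  [(2, 7), (3, 2), (5, 2), (19, 2)],
  [(2, 7), (3, 2), (5, 1), (7, 1), (587, 1)],
  [(2, 7), (3, 1), (5, 4), (107, 1)],
  [(2, 7), (3, 2), (5, 1), (17, 1), (19, 2)],
  [(2, 7), (3, 3), (5, 1), (17, 1), (131, 1)],
  [(2, 7), (3, 5), (5, 1), (17, 1), (19, 1)],
  [(2, 7), (3, 1), (5, 2), (7, 2), (11, 1), (13, 1)],
  [(2, 7), (3, 3), (5, 2), (7, 2), (19, 1)],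
  [(2, 7), (3, 2), (5, 1), (7, 1), (13, 2), (19, 1)],
  [(2, 7), (3, 2), (5, 1), (13, 1), (47, 1), (61, 1)],
  [(2, 7), (3, 2), (5, 2), (13, 1), (19, 1), (31, 1)],
  [(2, 7), (3, 2), (5, 2), (7, 1), (19, 1), (61, 1)],
  [(2, 7), (3, 2), (5, 2), (7, 1), (19, 1), (149, 1)],
  [(2, 7), (3, 1), (5, 3), (19, 1), (23, 1), (43, 1)],
  [(2, 7), (3, 1), (5, 4), (7, 1), (17, 1), (73, 1)],
  [(2, 7), (3, 3), (5, 1), (7, 2), (19, 1), (229, 1)],
  [(2, 7), (3, 1), (5, 3), (7, 1), (37, 1), (317, 1)],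
  [(2, 7), (3, 1), (5, 2), (19, 2), (23, 1), (53, 1)],
  [(2, 7), (3, 3), (5, 1), (7, 1), (19, 2), (109, 1)],
  [(2, 7), (3, 3), (5, 3), (19, 1), (23, 1), (103, 1)],
  [(2, 7), (3, 3), (5, 2), (19, 1), (41, 1), (457, 1)],
  [(2, 7), (3, 3), (5, 4), (19, 2), (43, 1)],
  [(2, 7), (3, 2), (5, 5), (11, 1), (29, 1), (47, 1)],
  [(2, 7), (3, 1), (5, 2), (43, 1), (599, 1), (661, 1)],
  [(2, 7), (3, 2), (5, 4), (11, 1), (19, 1), (29, 1), (97, 1)]]

/-- The candidates. -/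
def vecs1 : List Vec := [
  [-1, 0, 0, 1, -1, 0],
  [-1, 0, 0, 1, -1, 1],
  [-1, 0, 0, 1, 0, 1],
  [-1, 0, 1, 0, -1, 0],
  [-1, 1, 0, 0, -1, 0],
  [-1, 1, 0, 0, 0, 0],
  [-1, 1, 0, 0, 0, 1],
  [0, 0, 0, 1, -1, 0],
  [0, 0, 0, 1, -1, 1],
  [0, 0, 0, 1, 0, -1],
  [0, 0, 0, 1, 0, 0],
  [0, 0, 0, 1, 0, 1],
  [0, 0, 0, 1, 1, 0],
  [0, 0, 0, 1, 1, 1],
  [0, 0, 1, 0, -1, -1],
  [0, 0, 1, 0, -1, 0],
  [0, 0, 1, 0, -1, 1],
  [0, 0, 1, 0, 0, -1],
  [0, 0, 1, 0, 0, 0],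
  [0, 0, 1, 0, 0, 1],
  [0, 1, -1, 1, 0, 0],
  [0, 1, -1, 1, 0, 1],
  [0, 1, -1, 1, 1, 1],
  [0, 1, 0, 0, -1, 0],
  [0, 1, 0, 0, 0, -1],
  [0, 1, 0, 0, 0, 0],
  [0, 1, 0, 0, 0, 1],
  [0, 1, 0, 0, 1, 0],
  [0, 1, 0, 0, 1, 1],
  [0, 1, 1, -1, 0, 0],
  [1, 0, 0, 1, -1, 0],
  [1, 0, 0, 1, 0, -1],
  [1, 0, 0, 1, 0, 0],
  [1, 0, 0, 1, 0, 1],
  [1, 0, 0, 1, 1, 0],
  [1, 0, 0, 1, 1, 1],
  [1, 0, 1, 0, -1, -1],
  [1, 0, 1, 0, -1, 0],
  [1, 0, 1, 0, -1, 1],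
  [1, 0, 1, 0, 0, -1],
  [1, 0, 1, 0, 0, 0],
  [1, 0, 1, 0, 0, 1],
  [1, 0, 1, 0, 1, 0],
  [1, 1, -1, 1, 1, 0],
  [1, 1, 0, 0, 0, -1],
  [1, 1, 0, 0, 0, 0],
  [1, 1, 0, 0, 0, 1],
  [1, 1, 0, 0, 1, -1],
  [1, 1, 0, 0, 1, 0],
  [1, 1, 0, 0, 1, 1],
  [1, 1, 1, -1, 0, -1],
  [1, 1, 1, -1, 0, 0],
  [1, 1, 1, -1, 1, 0],
  [2, 0, 0, 1, 0, -1],
  [2, 0, 0, 1, 0, 0],
  [2, 0, 0, 1, 1, 0],
  [2, 0, 1, 0, 0, -1],
  [2, 0, 1, 0, 0, 0],
  [2, 0, 1, 0, 1, -1],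
  [2, 0, 1, 0, 1, 0],
  [2, 1, 0, 0, 1, -1],
  [2, 1, 0, 0, 1, 0]]

/-- The candidates. -/
def vecs2 : List Vec := [
  [-2, 1, -1, 0, 0, 0],
  [-2, 1, -1, 0, 0, 1],
  [-1, 1, -1, 0, -1, 0],
  [-1, 1, -1, 0, 0, -1],
  [-1, 1, -1, 0, 0, 0],
  [-1, 1, -1, 0, 0, 1],
  [-1, 1, -1, 0, 1, 0],
  [-1, 1, -1, 0, 1, 1],
  [-1, 1, 0, -1, -1, 0],
  [-1, 1, 0, -1, 0, -1],
  [-1, 1, 0, -1, 0, 0],
  [-1, 1, 0, -1, 0, 1],
  [-1, 1, 0, -1, 1, 0],
  [-1, 1, 0, 0, -1, 0],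
  [-1, 1, 0, 0, 0, 0],
  [-1, 1, 0, 0, 0, 1],
  [0, 1, -1, 0, 0, -1],
  [0, 1, -1, 0, 0, 0],
  [0, 1, -1, 0, 0, 1],
  [0, 1, -1, 0, 1, -1],
  [0, 1, -1, 0, 1, 0],
  [0, 1, -1, 0, 1, 1],
  [0, 1, -1, 1, 0, 0],
  [0, 1, -1, 1, 0, 1],
  [0, 1, -1, 1, 1, 1],
  [0, 1, 0, -1, -1, 0],
  [0, 1, 0, -1, 0, -1],
  [0, 1, 0, -1, 0, 0],
  [0, 1, 0, -1, 0, 1],
  [0, 1, 0, -1, 1, -1],
  [0, 1, 0, -1, 1, 0],
  [0, 1, 0, -1, 1, 1],
  [0, 1, 0, 0, -1, 0],
  [0, 1, 0, 0, 0, -1],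
  [0, 1, 0, 0, 0, 0],
  [0, 1, 0, 0, 0, 1],
  [0, 1, 0, 0, 1, 0],
  [0, 1, 0, 0, 1, 1],
  [0, 1, 1, -1, 0, 0],
  [1, 1, -1, 0, 1, -1],
  [1, 1, -1, 0, 1, 0],
  [1, 1, -1, 1, 1, 0],
  [1, 1, 0, -1, 0, -1],
  [1, 1, 0, -1, 0, 0],
  [1, 1, 0, -1, 1, -1],
  [1, 1, 0, -1, 1, 0],
  [1, 1, 0, 0, 0, -1],
  [1, 1, 0, 0, 0, 0],
  [1, 1, 0, 0, 0, 1],
  [1, 1, 0, 0, 1, -1],
  [1, 1, 0, 0, 1, 0],
  [1, 1, 0, 0, 1, 1],
  [1, 1, 1, -1, 0, -1],
  [1, 1, 1, -1, 0, 0],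
  [1, 1, 1, -1, 1, 0],
  [2, 1, 0, 0, 1, -1],
  [2, 1, 0, 0, 1, 0]]

end CfsgLib.SmallGroups.J3Order.Search
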