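import Cfsg.Agent.Lib.SmallGroups.J3Order.SearchKeys

/-!
# The first search, part 3
-/

set_option autoImplicit false
set_option maxRecDepth 100000

namespace CfsgLib.SmallGroups.J3Order.Search

theorem search1_9 : ((keys1.drop 63).take 7).all searchKey = true := by decide +kernel

theorem search1_10 : ((keys1.drop 70).take 7).all searchKey = true := by decide +kernel

theorem search1_11 : ((keys1.drop 77).take 7).all searchKey = true := by decide +kernel

end CfsgLib.SmallGroups.J3Order.Search
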