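import Cfsg.Agent.Lib.SmallGroups.J3Order.SearchKeys

/-!
# The second search, part 0
-/

set_option autoImplicit false
set_option maxRecDepth 100000

namespace CfsgLib.SmallGroups.J3Order.Search

theorem search2_0 : searchOrder (orders.getD 0 0) (factors.getD 0 []) keys2 = true := by decide +kernel

theorem search2_1 : searchOrder (orders.getD 1 0) (factors.getD 1 []) keys2 = true := by decide +kernel

theorem search2_2 : searchOrder (orders.getD 2 0) (factors.getD 2 []) keys2 = true := by decide +kernel

theorem search2_3 : searchOrder (orders.getD 3 0) (factors.getD 3 []) keys2 = true := by decide +kernel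

theorem search2_4 : searchOrder (orders.getD 4 0) (factors.getD 4 []) keys2 = true := by decide +kernel

theorem search2_5 : searchOrder (orders.getD 5 0) (factors.getD 5 []) keys2 = true := by decide +kernel

theorem search2_6 : searchOrder (orders.getD 6 0) (factors.getD 6 []) keys2 = true := by decide +kernel

end CfsgLib.SmallGroups.J3Order.Search
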