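import Cfsg.Agent.Lib.SmallGroups.J3Order.SearchKeys

/-!
# The second search, part 1
-/

set_option autoImplicit false
set_option maxRecDepth 100000

namespace CfsgLib.SmallGroups.J3Order.Search

theorem search2_7 : searchOrder (orders.getD 7 0) (factors.getD 7 []) keys2 = true := by decide +kernel

theorem search2_8 : searchOrder (orders.getD 8 0) (factors.getD 8 []) keys2 = true := by decide +kernel

theorem search2_9 : searchOrder (orders.getD 9 0) (factors.getD 9 []) keys2 = true := by decide +kernel

theorem search2_10 : searchOrder (orders.getD 10 0) (factors.getD 10 []) keys2 = true := by decide +kernel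

theorem search2_11 : searchOrder (orders.getD 11 0) (factors.getD 11 []) keys2 = true := by decide +kernel

theorem search2_12 : searchOrder (orders.getD 12 0) (factors.getD 12 []) keys2 = true := by decide +kernel

theorem search2_13 : searchOrder (orders.getD 13 0) (factors.getD 13 []) keys2 = true := by decide +kernel

end CfsgLib.SmallGroups.J3Order.Search
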