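import Cfsg.Agent.Lib.SmallGroups.J3Order.SearchKeys

/-!
# The second search, part 2
-/

set_option autoImplicit false
set_option maxRecDepth 100000

namespace CfsgLib.SmallGroups.J3Order.Search

theorem search2_14 : searchOrder (orders.getD 14 0) (factors.getD 14 []) keys2 = true := by decide +kernel

theorem search2_15 : searchOrder (orders.getD 15 0) (factors.getD 15 []) keys2 = true := by decide +kernel

theorem search2_16 : searchOrder (orders.getD 16 0) (factors.getD 16 []) keys2 = true := by decide +kernel

theorem search2_17 : searchOrder (orders.getD 17 0) (factors.getD 17 []) keys2 = true := by decide +kernel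

theorem search2_18 : searchOrder (orders.getD 18 0) (factors.getD 18 []) keys2 = true := by decide +kernel

theorem search2_19 : searchOrder (orders.getD 19 0) (factors.getD 19 []) keys2 = true := by decide +kernel

theorem search2_20 : searchOrder (orders.getD 20 0) (factors.getD 20 []) keys2 = true := by decide +kernel

end CfsgLib.SmallGroups.J3Order.Search
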