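import Cfsg.Agent.Lib.SmallGroups.J3Order.SearchOne0
import Cfsg.Agent.Lib.SmallGroups.J3Order.SearchOne1
import Cfsg.Agent.Lib.SmallGroups.J3Order.SearchOne2
import Cfsg.Agent.Lib.SmallGroups.J3Order.SearchOne3
import Cfsg.Agent.Lib.SmallGroups.J3Order.SearchOne4
import Cfsg.Agent.Lib.SmallGroups.J3Order.SearchOne5
import Cfsg.Agent.Lib.SmallGroups.J3Order.SearchTwo0
import Cfsg.Agent.Lib.SmallGroups.J3Order.SearchTwo1
import Cfsg.Agent.Lib.SmallGroups.J3Order.SearchTwo2
import Cfsg.Agent.Lib.SmallGroups.J3Order.SearchTwo3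

/-!
# Soundness of the searches
-/

set_option autoImplicit false
set_option maxRecDepth 100000

namespace CfsgLib.SmallGroups.J3Order.Search

/-- The conditions on a signed degree with prescribed square value and residue. -/
def Sig (p : ℤ × ℤ) (x : ℤ) (n : ℕ) : Prop :=
  2 ≤ x.natAbs ∧ p.1 ≤ x * x ∧ (128 : ℤ) ∣ x - p.2 ∧ x ∣ (n : ℤ) ∧ x * x ≤ n

theorem Sig.adm {p : ℤ × ℤ} {x : ℤ} {n : ℕ} (h : Sig p x n) : Search.adm p x = true := by
  simp only [Search.adm, Bool.and_eq_true, decide_eq_true_eq, beq_iff_eq]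
  exact ⟨⟨h.1, h.2.1⟩, Int.emod_eq_zero_of_dvd h.2.2.1⟩

theorem mem_prog {r x : ℤ} {L : ℕ} (hx : (128 : ℤ) ∣ x - r) (h : x.natAbs ≤ L) : x ∈ prog r L := by
  simp only [prog, List.mem_filter, List.mem_map, List.mem_range, decide_eq_true_eq]
  obtain ⟨q, hq⟩ := hx
  refine ⟨⟨((x - (-(L : ℤ) + (r + L) % 128)) / 128).toNat, ?_, ?_⟩, ?_⟩
  · omega
  · have := Int.emod_add_mul_ediv (r + L) 128
    omega
  · omega

theorem scan_sound (W S : ℕ) (E : ℤ) (E' : ℕ) (hE : (E' : ℤ) = E + S) (full : ℕ → Bool) :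
    ∀ (n : ℕ) (N' D' : ℕ) (f g : ℕ → ℤ), (N' : ℤ) = f 0 + S → (D' : ℤ) = g 0 + S →
      (∀ k, f (k + 1) = f k + g k) → (∀ k, g (k + 1) = g k + E) →
      scan W E' S full n N' D' = true → ∀ k < n, f k ≠ 0 → f k ∣ (W : ℤ) → full (n - 1 - k) = true := by
  intro n
  induction n with
  | zero => intro _ _ _ _ _ _ _ _ _ k hk; omega
  | succ n ih =>
    intro N' D' f g hN hD hf hg hs k hk hne hdvd
    have step : scan W E' S full (n + 1) N' D' = ((Nat.ble S (N' + D') && Nat.ble S (D' + E')) &&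
        ((Nat.ble 1 (W % ((N' - S) + (S - N'))) || full n) && scan W E' S full n (N' + D' - S) (D' + E' - S))) := by
      show Bool.rec (motive := fun _ => Bool) false
        (Bool.rec (motive := fun _ => Bool)
          (Bool.rec (motive := fun _ => Bool) false (scan W E' S full n (N' + D' - S) (D' + E' - S)) (full n))
          (scan W E' S full n (N' + D' - S) (D' + E' - S)) (Nat.ble 1 (W % ((N' - S) + (S - N')))))
        (Bool.rec (motive := fun _ => Bool) false (Nat.ble S (D' + E')) (Nat.ble S (N' + D'))) = _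
      cases Nat.ble S (N' + D') <;> cases Nat.ble S (D' + E') <;>
        cases Nat.ble 1 (W % ((N' - S) + (S - N'))) <;> cases full n <;> simp
    rw [step] at hs
    simp only [Bool.and_eq_true, Bool.or_eq_true, Nat.ble_eq] at hs
    obtain ⟨⟨g1, g2⟩, h1, h2⟩ := hs
    rcases k with _ | k
    · simp only [Nat.add_sub_cancel, Nat.sub_zero]
      refine h1.resolve_left fun h => ?_
      have habs : (N' - S) + (S - N') = (f 0).natAbs := by omega
      rw [habs] at h
      obtain ⟨c, hc⟩ := Int.natAbs_dvd_natAbs.2 hdvd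
      rw [Int.natAbs_natCast] at hc
      rw [hc, Nat.mul_mod_right] at h
      omega
    · have := ih (N' + D' - S) (D' + E' - S) (fun j => f (j + 1)) (fun j => g (j + 1))
        (by rw [Nat.cast_sub g1, Nat.cast_add, hN, hD, hf 0]; ring)
        (by rw [Nat.cast_sub g2, Nat.cast_add, hD, hE, hg 0]; ring)
        (fun j => hf (j + 1)) (fun j => hg (j + 1)) h2 k (by omega) hne hdvd
      rwa [show n + 1 - 1 - (k + 1) = n - 1 - k by omega]

theorem chk1_sound {a b c x y z : ℤ} {n : ℕ} (hn : 0 < n) (he : (n : ℤ) * num1 a b c x y z = 29184000 * (x * y * z))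
    (hx0 : x * y * z ≠ 0) (h1920 : 1920 ∣ n) (h256 : ¬ 256 ∣ n) (hx : x ∣ (n : ℤ)) (hy : y ∣ (n : ℤ))
    (hz : z ∣ (n : ℤ)) (hx2 : x * x ≤ n) (hy2 : y * y ≤ n) (hz2 : z * z ≤ n)
    (h : chk1 a b c x y z = true) : n ∈ orders := by
  have hN : num1 a b c x y z ≠ 0 := fun e => hx0 (by rw [e, mul_zero] at he; omega)
  have hdiv : 29184000 * (x * y * z) / num1 a b c x y z = n := by rw [← he, Int.mul_ediv_cancel _ hN]
  have hmod : 29184000 * (x * y * z) % num1 a b c x y z = 0 := by rw [← he]; exact Int.mul_emod_left _ _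
  simp only [chk1, beq_iff_eq, hN, if_false, hmod, bne_self_eq_false, Bool.false_eq_true, hdiv, Bool.or_eq_true,
    decide_eq_true_eq, bne_iff_ne, ne_eq, List.contains_iff_mem, Int.natAbs_natCast] at h
  rcases h with ((((((((h | h) | h) | h) | h) | h) | h) | h) | h) | h
  · omega
  · exact absurd (Int.emod_eq_zero_of_dvd (by exact_mod_cast h1920)) h
  · exact absurd (by exact_mod_cast (Int.dvd_of_emod_eq_zero h : (256 : ℤ) ∣ n)) h256
  · exact absurd (Int.emod_eq_zero_of_dvd hx) h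
  · exact absurd (Int.emod_eq_zero_of_dvd hy) h
  · exact absurd (Int.emod_eq_zero_of_dvd hz) h
  · omega
  · omega
  · omega
  · exact h

/-- The hypotheses of the first search. -/
def Hyp1 (p q r : ℤ × ℤ) (x y z : ℤ) (n : ℕ) : Prop :=
  0 < n ∧ 1920 ∣ n ∧ ¬ 256 ∣ n ∧ Sig p x n ∧ Sig q y n ∧ Sig r z n ∧ x + y + z = -1 ∧
    (n : ℤ) * num1 p.1 q.1 r.1 x y z = 29184000 * (x * y * z)

theorem Hyp1.swap {p q r : ℤ × ℤ} {x y z : ℤ} {n : ℕ} (h : Hyp1 p q r x y z n) : Hyp1 p r q x z y n := by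
  obtain ⟨h1, h2, h3, hx, hy, hz, hs, he⟩ := h
  exact ⟨h1, h2, h3, hx, hz, hy, by omega, by rw [num1] at he ⊢; linear_combination he⟩

theorem Hyp1.first {p q r : ℤ × ℤ} {x y z : ℤ} {n : ℕ} (h : Hyp1 p q r x y z n) : Hyp1 q p r y x z n := by
  obtain ⟨h1, h2, h3, hx, hy, hz, hs, he⟩ := h
  exact ⟨h1, h2, h3, hy, hx, hz, by omega, by rw [num1] at he ⊢; linear_combination he⟩

theorem scanRange_sound {p q r : ℤ × ℤ} {x y z lo hi : ℤ} {n : ℕ} (h : Hyp1 p q r x y z n)
    (hlo : lo ≤ y) (hhi : y ≤ hi) (hs : scanRange p q r x lo hi = true) : n ∈ orders := by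
  obtain ⟨hn, h1920, h256, hx, hy, hz, hsum, he⟩ := h
  have hx0 : x ≠ 0 := fun e => by have := hx.1; rw [e] at this; simp at this
  have hy0 : y ≠ 0 := fun e => by have := hy.1; rw [e] at this; simp at this
  have hz0 : z ≠ 0 := fun e => by have := hz.1; rw [e] at this; simp at this
  have hP : x * y * z ≠ 0 := mul_ne_zero (mul_ne_zero hx0 hy0) hz0
  obtain ⟨q', hq'⟩ := hy.2.2.1
  simp only [scanRange] at hs
  generalize hfirst : lo + (q.2 - lo) % 128 = first at hs
  have hm := Int.emod_add_mul_ediv (q.2 - lo) 128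
  obtain ⟨k, hk⟩ : ∃ k : ℕ, y = first + 128 * (k : ℤ) :=
    ⟨((y - first) / 128).toNat, by omega⟩
  rw [if_neg (by omega)] at hs
  simp only [Bool.and_eq_true, decide_eq_true_eq] at hs
  obtain ⟨⟨⟨gN, gD⟩, gE⟩, hs⟩ := hs
  let f : ℕ → ℤ := fun j =>
    (x + p.1) * (first + 128 * j) * (-1 - x - (first + 128 * j)) + q.1 * x * (-1 - x - (first + 128 * j)) +
      r.1 * x * (first + 128 * j)
  let g : ℕ → ℤ := fun j =>
    (x + p.1) * (128 * (-1 - x) - 256 * (first + 128 * j) - 16384) + 128 * x * (r.1 - q.1)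
  have hzy : z = -1 - x - y := by omega
  have hfk : f k = num1 p.1 q.1 r.1 x y z := by
    simp only [f, num1, hzy, ← hk]
    ring
  have hfne : f k ≠ 0 := fun e => hP (by rw [← hfk, e, mul_zero] at he; omega)
  have hdvd : f k ∣ ((29184000 * x * (-1 - x)).natAbs : ℤ) := by
    rw [hfk, Int.dvd_natAbs]
    obtain ⟨i, hi'⟩ := hy.2.2.2.1
    obtain ⟨j, hj'⟩ := hz.2.2.2.1
    refine ⟨i + j, ?_⟩
    have e1 : i * num1 p.1 q.1 r.1 x y z = 29184000 * (x * z) := by
      refine mul_left_cancel₀ hy0 ?_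
      rw [← mul_assoc, ← hi', he]; ring
    have e2 : j * num1 p.1 q.1 r.1 x y z = 29184000 * (x * y) := by
      refine mul_left_cancel₀ hz0 ?_
      rw [← mul_assoc, ← hj', he]; ring
    rw [show (-1 - x) = y + z by omega]
    linear_combination -e1 - e2
  have := scan_sound _ _ (-32768 * (x + p.1)) _ (by rw [Int.toNat_of_nonneg gE]; norm_num) _ _ _ _ f g
    (by rw [Int.toNat_of_nonneg gN]; simp only [f]; norm_num)
    (by rw [Int.toNat_of_nonneg gD]; simp only [g]; norm_num)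
    (fun j => by simp only [f, g]; push_cast; ring) (fun j => by simp only [g]; push_cast; ring) hs k
    (by omega) hfne hdvd
  have hidx : ((((hi - first) / 128).toNat + 1 - 1 - (((hi - first) / 128).toNat + 1 - 1 - k) : ℕ) : ℤ) = k := by omega
  simp only [hidx, ← hk, ← hzy, hy.adm, hz.adm, Bool.not_true, Bool.false_or] at this
  exact chk1_sound hn he hP h1920 h256 hx.2.2.2.1 hy.2.2.2.1 hz.2.2.2.1 hx.2.2.2.2 hy.2.2.2.2 hz.2.2.2.2 this

theorem large_bound {a b c x y z : ℤ} {C : ℕ} (ha : 0 ≤ a) (hb : 0 ≤ b) (hc : 0 ≤ c) (hC : a + b + c = C)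
    (hx : 2 * C ≤ x.natAbs) (hy : 2 * C ≤ y.natAbs) (hz : 2 * C ≤ z.natAbs) {n : ℕ}
    (he : (n : ℤ) * num1 a b c x y z = 29184000 * (x * y * z)) (hP : x * y * z ≠ 0) : n ≤ 2 * 29184000 := by
  have hX : (2 : ℤ) * C ≤ |x| := by rw [Int.abs_eq_natAbs]; exact_mod_cast hx
  have hY : (2 : ℤ) * C ≤ |y| := by rw [Int.abs_eq_natAbs]; exact_mod_cast hy
  have hZ : (2 : ℤ) * C ≤ |z| := by rw [Int.abs_eq_natAbs]; exact_mod_cast hz
  set T := a * (y * z) + b * (x * z) + c * (x * y) with hT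
  have hTle : 2 * |T| ≤ |x * y * z| := by
    by_cases h0 : (C : ℤ) = 0
    · have : T = 0 := by
        rw [hT, show a = 0 by omega, show b = 0 by omega, show c = 0 by omega]; ring
      rw [this, abs_zero, mul_zero]; exact abs_nonneg _
    have hpos : (0 : ℤ) < C := by omega
    have h1 : |T| ≤ a * (|y| * |z|) + b * (|x| * |z|) + c * (|x| * |y|) := by
      rw [hT]
      refine (abs_add_three _ _ _).trans ?_
      simp only [abs_mul, abs_of_nonneg ha, abs_of_nonneg hb, abs_of_nonneg hc]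
      exact le_refl _
    have hyz : 0 ≤ |y| * |z| := mul_nonneg (abs_nonneg _) (abs_nonneg _)
    have hxz : 0 ≤ |x| * |z| := mul_nonneg (abs_nonneg _) (abs_nonneg _)
    have hxy : 0 ≤ |x| * |y| := mul_nonneg (abs_nonneg _) (abs_nonneg _)
    have h2 : 2 * (C : ℤ) * |T| ≤ (C : ℤ) * |x * y * z| := by
      rw [abs_mul, abs_mul]
      calc 2 * (C : ℤ) * |T| ≤ 2 * (C : ℤ) * (a * (|y| * |z|) + b * (|x| * |z|) + c * (|x| * |y|)) :=
            mul_le_mul_of_nonneg_left h1 (by omega)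
        _ ≤ (a + b + c) * (|x| * |y| * |z|) := by
            nlinarith [mul_le_mul_of_nonneg_right hX (mul_nonneg ha hyz), mul_le_mul_of_nonneg_right hY (mul_nonneg hb hxz),
              mul_le_mul_of_nonneg_right hZ (mul_nonneg hc hxy)]
        _ = _ := by rw [hC]
    exact le_of_mul_le_mul_left (by nlinarith [h2]) hpos
  have h3 : (n : ℤ) * |x * y * z| ≤ 29184000 * |x * y * z| + n * |T| := by
    have e : (n : ℤ) * (x * y * z) = 29184000 * (x * y * z) - n * T := by rw [hT, ← he, num1]; ring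
    calc (n : ℤ) * |x * y * z| = |(n : ℤ) * (x * y * z)| := by rw [abs_mul (n : ℤ), Nat.abs_cast]
      _ ≤ |29184000 * (x * y * z)| + |(n : ℤ) * T| := by rw [e]; exact abs_sub _ _
      _ = _ := by rw [abs_mul (29184000 : ℤ), abs_mul (n : ℤ), Nat.abs_cast]; norm_num
  have hpos : 0 < |x * y * z| := abs_pos.2 hP
  have h4 : (n : ℤ) * |x * y * z| ≤ (2 * 29184000) * |x * y * z| := by
    nlinarith [mul_le_mul_of_nonneg_left hTle (Int.natCast_nonneg n)]
  exact_mod_cast le_of_mul_le_mul_right h4 hpos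

theorem caseB_sound {p q r : ℤ × ℤ} {x y z : ℤ} {n : ℕ} (hb : 0 ≤ q.1) (hc : 0 ≤ r.1) (h : Hyp1 p q r x y z n)
    (hsmall : x.natAbs ≤ 2 * (p.1 + q.1 + r.1).natAbs) (hs : caseB p q r = true) : n ∈ orders := by
  have h' := h
  obtain ⟨hn, -, -, hx, hy, hz, -, he⟩ := h'
  simp only [caseB] at hs
  have hk := List.all_eq_true.1 hs x (mem_prog hx.2.2.1 hsmall)
  rw [hx.adm, Bool.not_true, Bool.false_or] at hk
  by_cases h0 : x + p.1 = 0
  · simp [h0] at hk
  rw [if_neg (by simpa using h0)] at hk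
  simp only [Bool.and_eq_true, Bool.or_eq_true, decide_eq_true_eq, Bool.not_eq_true', decide_eq_false_iff_not] at hk
  generalize hM : 2 * 29184000 * x.natAbs / (x + p.1).natAbs = M at hk
  generalize hB : (if 0 < (x + p.1) * x then
    max (usqrt 64 M (M + 1)) (2 * (q.1 + r.1).natAbs * x.natAbs / (x + p.1).natAbs)
    else (q.1 + r.1).natAbs * x.natAbs / (x + p.1).natAbs) = B at hk
  obtain ⟨⟨hcond, hs1⟩, hs2⟩ := hk
  by_cases hy' : y.natAbs ≤ B
  · exact scanRange_sound h (by omega) (by omega) hs1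
  by_cases hz' : z.natAbs ≤ B
  · exact scanRange_sound h.swap (by omega) (by omega) hs2
  exfalso
  push Not at hy' hz'
  have hDpos : 0 < (x + p.1).natAbs := by omega
  have hx0 : x ≠ 0 := fun e => by have := hx.1; rw [e] at this; simp at this
  have hy0 : y ≠ 0 := fun e => by rw [e] at hy'; simp at hy'
  have hz0 : z ≠ 0 := fun e => by rw [e] at hz'; simp at hz'
  have hY : (B : ℤ) + 1 ≤ |y| := by rw [Int.abs_eq_natAbs]; exact_mod_cast hy'
  have hZ : (B : ℤ) + 1 ≤ |z| := by rw [Int.abs_eq_natAbs]; exact_mod_cast hz'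
  -- the small part
  have hW : ((B : ℤ) + 1) * |x * (q.1 * z + r.1 * y)| ≤ (q.1 + r.1) * |x| * (|y| * |z|) := by
    rw [abs_mul x]
    calc ((B : ℤ) + 1) * (|x| * |q.1 * z + r.1 * y|) ≤ ((B : ℤ) + 1) * (|x| * (q.1 * |z| + r.1 * |y|)) := by
          refine mul_le_mul_of_nonneg_left (mul_le_mul_of_nonneg_left ?_ (abs_nonneg _)) (by omega)
          refine (abs_add_le _ _).trans ?_
          rw [abs_mul, abs_mul, abs_of_nonneg hb, abs_of_nonneg hc]
      _ ≤ _ := by
          nlinarith [mul_le_mul_of_nonneg_right hY (mul_nonneg (mul_nonneg hb (abs_nonneg x)) (abs_nonneg z)),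
            mul_le_mul_of_nonneg_right hZ (mul_nonneg (mul_nonneg hc (abs_nonneg x)) (abs_nonneg y))]
  have hmul : (n : ℤ) * ((x + p.1) * x) * ((y * z) * (y * z)) + (n : ℤ) * (x * (q.1 * z + r.1 * y)) * (x * (y * z)) =
      29184000 * ((x * (y * z)) * (x * (y * z))) := by
    rw [num1] at he
    linear_combination (x * (y * z)) * he
  have hlow : -(|x * (q.1 * z + r.1 * y)| * (|x| * (|y| * |z|))) ≤ x * (q.1 * z + r.1 * y) * (x * (y * z)) := by
    rw [← abs_mul y, ← abs_mul x (y * z), ← abs_mul]; exact neg_abs_le _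
  have hhigh : x * (q.1 * z + r.1 * y) * (x * (y * z)) ≤ |x * (q.1 * z + r.1 * y)| * (|x| * (|y| * |z|)) := by
    rw [← abs_mul y, ← abs_mul x (y * z), ← abs_mul]; exact le_abs_self _
  have hX0 : 0 < |x| := abs_pos.2 hx0
  have hYZ : 0 < |y| * |z| := mul_pos (abs_pos.2 hy0) (abs_pos.2 hz0)
  have hn' : (0 : ℤ) < n := by exact_mod_cast hn
  have hsq : (y * z) * (y * z) = (|y| * |z|) * (|y| * |z|) := by rw [← abs_mul, abs_mul_abs_self]
  have hsqx : (x * (y * z)) * (x * (y * z)) = (|x| * (|y| * |z|)) * (|x| * (|y| * |z|)) := by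
    rw [← abs_mul y, ← abs_mul x, abs_mul_abs_self]
  have hcc : (((q.1 + r.1).natAbs : ℕ) : ℤ) = q.1 + r.1 := Int.natAbs_of_nonneg (by omega)
  have hXn : ((x.natAbs : ℕ) : ℤ) = |x| := (Int.abs_eq_natAbs x).symm
  by_cases hpos : 0 < (x + p.1) * x
  · have hD : ((x + p.1).natAbs : ℤ) * |x| = (x + p.1) * x := by
      rw [← Int.abs_eq_natAbs, ← abs_mul, abs_of_pos hpos]
    rw [if_pos hpos] at hB
    have hlt : 2 * (q.1 + r.1).natAbs * x.natAbs < (x + p.1).natAbs * (B + 1) := by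
      have h1 : 2 * (q.1 + r.1).natAbs * x.natAbs / (x + p.1).natAbs ≤ B := hB ▸ le_max_right _ _
      rw [mul_comm ((x + p.1).natAbs)]
      exact (Nat.div_lt_iff_lt_mul hDpos).1 (by omega)
    have hlt' : 2 * (q.1 + r.1) * |x| < ((x + p.1).natAbs : ℤ) * ((B : ℤ) + 1) := by
      rw [← hcc, ← hXn]; exact_mod_cast hlt
    have hsmallW : 2 * |x * (q.1 * z + r.1 * y)| < ((x + p.1).natAbs : ℤ) * (|y| * |z|) := by
      refine lt_of_mul_lt_mul_left ?_ (show (0 : ℤ) ≤ (B : ℤ) + 1 by omega)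
      linarith [hW, mul_lt_mul_of_pos_right hlt' hYZ]
    have hfinal : (n : ℤ) * ((x + p.1).natAbs : ℤ) < 2 * 29184000 * |x| := by
      refine lt_of_mul_lt_mul_right ?_ (le_of_lt (show 0 < |x| * ((|y| * |z|) * (|y| * |z|)) by positivity))
      rw [hsq, hsqx] at hmul
      have k1 := mul_lt_mul_of_pos_left hsmallW (mul_pos hn' (mul_pos hX0 hYZ))
      have k2 := mul_le_mul_of_nonneg_left hlow hn'.le
      rw [← hD] at hmul
      linarith [hmul, k1, k2]
    have hnM : n ≤ M := by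
      rw [← hM]
      refine (Nat.le_div_iff_mul_le hDpos).2 ?_
      have : ((n * (x + p.1).natAbs : ℕ) : ℤ) < ((2 * 29184000 * x.natAbs : ℕ) : ℤ) := by
        rw [Nat.cast_mul, Nat.cast_mul, Nat.cast_mul, Nat.cast_ofNat, Nat.cast_ofNat, hXn]; exact hfinal
      omega
    have hMB : M < B * B := hcond.resolve_right fun hh => hh hpos
    have h1 := hy.2.2.2.2
    have h2 : y.natAbs * y.natAbs ≤ n := by
      have : ((y.natAbs * y.natAbs : ℕ) : ℤ) ≤ n := by rw [Nat.cast_mul, Int.natAbs_mul_self']; exact h1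
      exact_mod_cast this
    have h3 : B * B ≤ y.natAbs * y.natAbs := Nat.mul_le_mul (by omega) (by omega)
    omega
  · have hne : (x + p.1) * x ≠ 0 := mul_ne_zero h0 hx0
    have hneg : (x + p.1) * x < 0 := lt_of_le_of_ne (not_lt.1 hpos) hne
    have hD : ((x + p.1).natAbs : ℤ) * |x| = -((x + p.1) * x) := by
      rw [← Int.abs_eq_natAbs, ← abs_mul, abs_of_neg hneg]
    rw [if_neg hpos] at hB
    have hlt : (q.1 + r.1).natAbs * x.natAbs < (x + p.1).natAbs * (B + 1) := by
      rw [mul_comm ((x + p.1).natAbs)]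
      exact (Nat.div_lt_iff_lt_mul hDpos).1 (by omega)
    have hlt' : (q.1 + r.1) * |x| < ((x + p.1).natAbs : ℤ) * ((B : ℤ) + 1) := by
      rw [← hcc, ← hXn]; exact_mod_cast hlt
    have hsmallW : |x * (q.1 * z + r.1 * y)| < ((x + p.1).natAbs : ℤ) * (|y| * |z|) := by
      refine lt_of_mul_lt_mul_left ?_ (show (0 : ℤ) ≤ (B : ℤ) + 1 by omega)
      linarith [hW, mul_lt_mul_of_pos_right hlt' hYZ]
    rw [hsq, hsqx] at hmul
    have k1 := mul_lt_mul_of_pos_left hsmallW (mul_pos hn' (mul_pos hX0 hYZ))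
    have k2 := mul_le_mul_of_nonneg_left hhigh hn'.le
    have k3 : 0 < (|x| * (|y| * |z|)) * (|x| * (|y| * |z|)) := by positivity
    have hD' : (x + p.1) * x = -(((x + p.1).natAbs : ℤ) * |x|) := by linarith
    rw [hD'] at hmul
    linarith [hmul, k1, k2, k3]

theorem keys_facts : (keys1.all fun k => decide (0 ≤ k.1.1) && decide (0 ≤ k.2.1.1) && decide (0 ≤ k.2.2.1)) = true ∧
    (keys2.all fun k => decide (0 ≤ k.1.2) && decide (k.1.2 < 128) && decide (0 ≤ k.2.1.2) && decide (k.2.1.2 < 128)) =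
      true := by decide +kernel

theorem searchKey_of_mem {k : Key} (hk : k ∈ keys1) : searchKey k = true := by
  have hsplit : keys1 = (List.range 18).flatMap fun j => (keys1.drop (j * 7)).take 7 := by decide +kernel
  rw [hsplit, List.mem_flatMap] at hk
  obtain ⟨j, hj, hmem⟩ := hk
  rw [List.mem_range] at hj
  have h : ((keys1.drop (j * 7)).take 7).all searchKey = true := by
    interval_cases j
    exacts [search1_0, search1_1, search1_2, search1_3, search1_4, search1_5, search1_6, search1_7, search1_8,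
      search1_9, search1_10, search1_11, search1_12, search1_13, search1_14, search1_15, search1_16, search1_17]
  exact List.all_eq_true.1 h k hmem

/-- The first search. -/
theorem first_search {k : Key} (hk : k ∈ keys1) {x y z : ℤ} {n : ℕ} (h : Hyp1 k.1 k.2.1 k.2.2 x y z n) :
    n ∈ orders := by
  have hs := searchKey_of_mem hk
  simp only [searchKey, Bool.and_eq_true] at hs
  obtain ⟨⟨⟨hA, hB1⟩, hB2⟩, hB3⟩ := hs
  have hnn := List.all_eq_true.1 keys_facts.1 k hk
  simp only [Bool.and_eq_true, decide_eq_true_eq] at hnn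
  obtain ⟨⟨ha, hb⟩, hc⟩ := hnn
  generalize hC : (k.1.1 + k.2.1.1 + k.2.2.1).natAbs = C at *
  by_cases hxs : x.natAbs < 2 * C
  · exact caseB_sound hb hc h (by omega) hB1
  by_cases hys : y.natAbs < 2 * C
  · exact caseB_sound ha hc h.first (by omega) hB2
  by_cases hzs : z.natAbs < 2 * C
  · exact caseB_sound ha hb h.swap.first (by omega) hB3
  have h' := h
  obtain ⟨hn, -, -, hx, hy, hz, hsum, he⟩ := h'
  have hP : x * y * z ≠ 0 := by
    refine mul_ne_zero (mul_ne_zero ?_ ?_) ?_ <;> intro e <;> subst e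
    · exact absurd hx.1 (by simp)
    · exact absurd hy.1 (by simp)
    · exact absurd hz.1 (by simp)
  have hle := large_bound (C := C) ha hb hc (by omega) (by omega) (by omega) (by omega) he hP
  have hL : ∀ {v : ℤ}, v * v ≤ (n : ℤ) → v.natAbs ≤ 7640 := fun {v} hv => by
    have : ((v.natAbs * v.natAbs : ℕ) : ℤ) ≤ n := by rw [Nat.cast_mul, Int.natAbs_mul_self']; exact hv
    have h2 : v.natAbs * v.natAbs ≤ n := by exact_mod_cast this
    by_contra hbig
    have := Nat.mul_le_mul (show 7641 ≤ v.natAbs by omega) (show 7641 ≤ v.natAbs by omega)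
    omega
  have bx := hL hx.2.2.2.2
  have bz := hL hz.2.2.2.2
  have by' := hL hy.2.2.2.2
  simp only [caseA, hC] at hA
  have hk' := List.all_eq_true.1 hA x (mem_prog hx.2.2.1 bx)
  simp only [hx.adm, Bool.not_true, Bool.or_false, Bool.or_eq_true, decide_eq_true_eq] at hk'
  exact scanRange_sound h (by omega) (by omega) (hk'.resolve_left hxs)

theorem buckets_length : ∀ (k : ℕ) (l : List ℤ), (buckets k l).length = 2 ^ k
  | 0, l => by simp [buckets]
  | k + 1, l => by rw [buckets, List.length_append, buckets_length k, buckets_length k, pow_succ]; omega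

theorem buckets_mem : ∀ (k : ℕ) (l : List ℤ) (x : ℤ), x ∈ l →
    x ∈ (buckets k l).getD (x % (2 ^ k : ℤ)).toNat []
  | 0, l, x, h => by simp [buckets, h]
  | k + 1, l, x, h => by
    have hpos : (0 : ℤ) < 2 ^ k := by positivity
    have hmm : x % (2 ^ (k + 1) : ℤ) % (2 ^ k : ℤ) = x % (2 ^ k : ℤ) :=
      Int.emod_emod_of_dvd x (pow_dvd_pow 2 (Nat.le_succ k))
    have h0 : 0 ≤ x % (2 ^ (k + 1) : ℤ) := Int.emod_nonneg _ (by positivity)
    have h1 : x % (2 ^ (k + 1) : ℤ) < 2 * (2 ^ k : ℤ) := by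
      have := Int.emod_lt_of_pos x (show (0 : ℤ) < 2 ^ (k + 1) by positivity)
      linarith [pow_succ (2 : ℤ) k]
    have hk : ((2 ^ k : ℕ) : ℤ) = (2 : ℤ) ^ k := by push_cast; ring
    rw [buckets]
    by_cases hlt : x % (2 ^ (k + 1) : ℤ) < (2 ^ k : ℤ)
    · rw [List.getD_append _ _ _ _ (by rw [buckets_length]; omega)]
      rw [← Int.emod_eq_of_lt h0 hlt, hmm]
      exact buckets_mem k _ x (List.mem_filter.2 ⟨h, decide_eq_true hlt⟩)
    · rw [List.getD_append_right _ _ _ _ (by rw [buckets_length]; omega), buckets_length]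
      have e : x % (2 ^ k : ℤ) = x % (2 ^ (k + 1) : ℤ) - 2 ^ k := by
        rw [← hmm, ← Int.sub_emod_right, Int.emod_eq_of_lt (by omega) (by omega)]
      rw [show (x % (2 ^ (k + 1) : ℤ)).toNat - 2 ^ k = (x % (2 ^ k : ℤ)).toNat by omega]
      exact buckets_mem k _ x (List.mem_filter.2 ⟨h, by simpa using hlt⟩)

theorem mem_divs : ∀ (f : List (ℕ × ℕ)), (∀ p ∈ f, p.1.Prime) → ∀ d,
    d ∣ (f.map fun p => p.1 ^ p.2).prod → d ∈ divs f
  | [], _, d, h => by
    simp only [List.map_nil, List.prod_nil, Nat.dvd_one] at h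
    simp [divs, h]
  | p :: l, hp, d, h => by
    rw [List.map_cons, List.prod_cons, Nat.dvd_mul] at h
    obtain ⟨a, b, ha, hb, rfl⟩ := h
    obtain ⟨i, hi, rfl⟩ := (Nat.dvd_prime_pow (hp p List.mem_cons_self)).1 ha
    rw [divs, List.mem_flatMap]
    exact ⟨i, List.mem_range.2 (by omega), List.mem_map.2
      ⟨b, mem_divs l (fun q hq => hp q (List.mem_cons_of_mem _ hq)) b hb, rfl⟩⟩

theorem factors_ok : (List.range 28).all (fun j => ((factors.getD j []).map fun p => p.1 ^ p.2).prod == orders.getD j 0 &&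
    (factors.getD j []).all fun p => decide p.1.Prime) = true := by decide +kernel

/-- The second search. -/
theorem second_search {k : Key} (hk : k ∈ keys2) {x y z : ℤ} {n : ℕ} (hn : n ∈ orders) (hx : Sig k.1 x n)
    (hy : Sig k.2.1 y n) (hz : Sig k.2.2 z n) (hsum : x + y + z = 0)
    (he : (n : ℤ) * (k.1.1 * (y * z) + k.2.1.1 * (x * z) + k.2.2.1 * (x * y)) = 614400 * (x * y * z)) :
    n = 50232960 := by
  obtain ⟨j, hj, rfl⟩ := List.mem_iff_getElem.1 hn
  have hj28 : j < 28 := hj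
  have hf := List.all_eq_true.1 factors_ok j (List.mem_range.2 hj28)
  simp only [Bool.and_eq_true, beq_iff_eq, List.all_eq_true, decide_eq_true_eq] at hf
  obtain ⟨hprod, hprime⟩ := hf
  have hs : searchOrder (orders.getD j 0) (factors.getD j []) keys2 = true := by
    interval_cases j
    exacts [search2_0, search2_1, search2_2, search2_3, search2_4, search2_5, search2_6, search2_7, search2_8,
      search2_9, search2_10, search2_11, search2_12, search2_13, search2_14, search2_15, search2_16, search2_17,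
      search2_18, search2_19, search2_20, search2_21, search2_22, search2_23, search2_24, search2_25, search2_26,
      search2_27]
  rw [List.getD_eq_getElem (hn := hj)] at hs hprod
  generalize hg : orders[j] = g at *
  have hk2 := List.all_eq_true.1 keys_facts.2 k hk
  simp only [Bool.and_eq_true, decide_eq_true_eq] at hk2
  obtain ⟨⟨⟨r1, r1'⟩, r2⟩, r2'⟩ := hk2
  have hin : ∀ {p : ℤ × ℤ} {v : ℤ}, 0 ≤ p.2 → p.2 < 128 → Sig p v g →
      v ∈ (buckets 7 (signed g (factors.getD j []))).getD p.2.natAbs [] := by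
    intro p v hp0 hp1 hv
    have hd : v.natAbs ∣ g := by
      have := Int.natAbs_dvd_natAbs.2 hv.2.2.2.1
      rwa [Int.natAbs_natCast] at this
    have hm : v ∈ signed g (factors.getD j []) := by
      rw [signed, List.mem_flatMap]
      refine ⟨(v.natAbs : ℤ), List.mem_flatMap.2 ⟨v.natAbs,
        List.mem_filter.2 ⟨mem_divs _ hprime _ (hprod.symm ▸ hd), decide_eq_true ?_⟩, List.mem_singleton_self _⟩, ?_⟩
      · have : ((v.natAbs * v.natAbs : ℕ) : ℤ) ≤ g := by rw [Nat.cast_mul, Int.natAbs_mul_self']; exact hv.2.2.2.2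
        exact_mod_cast this
      · simp only [List.mem_cons, List.not_mem_nil, or_false]
        exact Int.natAbs_eq v
    have := buckets_mem 7 _ v hm
    obtain ⟨c, hc⟩ := hv.2.2.1
    rwa [show (v % (2 ^ 7 : ℤ)).toNat = p.2.natAbs by omega] at this
  simp only [searchOrder] at hs
  have h1 := List.all_eq_true.1 hs k hk
  simp only [searchKey2] at h1
  have h2 := List.all_eq_true.1 h1 x (hin r1 r1' hx)
  rw [hx.adm, Bool.not_true, Bool.false_or] at h2
  have h3 := List.all_eq_true.1 h2 y (hin r2 r2' hy)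
  rw [show -x - y = z by omega] at h3
  simp only [hy.adm, hz.adm, Bool.not_true, Bool.false_or, he, bne_self_eq_false, Bool.or_false, Bool.or_eq_true,
    bne_iff_ne, decide_eq_true_eq, beq_iff_eq] at h3
  rcases h3 with (h3 | h3) | h3
  · exact absurd (Int.emod_eq_zero_of_dvd hz.2.2.2.1) h3
  · exact absurd hz.2.2.2.2 (not_le.2 h3)
  · exact h3

end CfsgLib.SmallGroups.J3Order.Search
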