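import Cfsg.Agent.Lib.SmallGroups.J3Order.SearchKeys

/-!
# The triples of constituents
-/

set_option autoImplicit false
set_option maxRecDepth 100000

namespace CfsgLib.SmallGroups.J3Order.Search

theorem cands1 : cands [0, 1, 1, 1, 0, 0] = vecs1 := by decide +kernel

theorem cands2 : cands [0, 1, 0, 0, 0, 0] = vecs2 := by decide +kernel

theorem triples1 : triplesOK [2, 1, 1, 1, 0, 0] keys1 vecs1 = true := by decide +kernel

theorem triples2 : triplesOK [0, 3, -1, -1, 1, 0] keys2 vecs2 = true := by decide +kernel

end CfsgLib.SmallGroups.J3Order.Search
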