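import Cfsg.Agent.Lib.SmallGroups.J3Order.SearchKeys

/-!
# The second search, part 3
-/

set_option autoImplicit false
set_option maxRecDepth 100000

namespace CfsgLib.SmallGroups.J3Order.Search

theorem search2_21 : searchOrder (orders.getD 21 0) (factors.getD 21 []) keys2 = true := by decide +kernel

theorem search2_22 : searchOrder (orders.getD 22 0) (factors.getD 22 []) keys2 = true := by decide +kernel

theorem search2_23 : searchOrder (orders.getD 23 0) (factors.getD 23 []) keys2 = true := by decide +kernel

theorem search2_24 : searchOrder (orders.getD 24 0) (factors.getD 24 []) keys2 = true := by decide +kernel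

theorem search2_25 : searchOrder (orders.getD 25 0) (factors.getD 25 []) keys2 = true := by decide +kernel

theorem search2_26 : searchOrder (orders.getD 26 0) (factors.getD 26 []) keys2 = true := by decide +kernel

theorem search2_27 : searchOrder (orders.getD 27 0) (factors.getD 27 []) keys2 = true := by decide +kernel

end CfsgLib.SmallGroups.J3Order.Search
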