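import Cfsg.Agent.Lib.Characterizations.HallJanko.Complement
import Cfsg.Agent.Lib.Involution.ZStar.Main

/-!
# An extraspecial group of order 32 in the centraliser of an involution of a simple group

If the quotient is `A₅` then the extraspecial group contains its centraliser.
-/

set_option autoImplicit false
set_option linter.style.haveILetI false
set_option linter.unusedSectionVars false
set_option synthInstance.maxSize 4000
set_option synthInstance.maxHeartbeats 200000

namespace CfsgLib.SmallGroups.J3Order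

open CfsgLib.Characterizations.HallJanko (Base)
open CfsgLib.Characterizations.HallJankoCount
open CfsgLib.Involution.Dihedral
open CfsgLib.ThreeTransp.Extraspecial (Extra)
open scoped commutatorElement

/-- The hypotheses on the centraliser `C` of the involution `z`. -/
structure Hyp {G : Type*} [Group G] (Q C : Subgroup G) (z : G) : Prop where
  hz : orderOf z = 2
  cC : C = Subgroup.centralizer ({z} : Set G)
  extra : Extra Q z
  card_Q : Nat.card Q = 32
  le : Q ≤ C
  norm : ∀ c ∈ C, ∀ q ∈ Q, c * q * c⁻¹ ∈ Q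
  quot : ∃ π : ↥C →* alternatingGroup (Fin 5), Function.Surjective π ∧ π.ker = Q.subgroupOf C

set_option maxRecDepth 100000 in
theorem alt5_facts : (∀ σ : alternatingGroup (Fin 5), σ * σ = 1 → σ ≠ 1 →
      ∀ a : alternatingGroup (Fin 5), a * σ = σ * a → ∀ b : alternatingGroup (Fin 5), b * σ = σ * b →
        a * b = b * a) ∧
    (∀ σ : alternatingGroup (Fin 5), (∀ a : alternatingGroup (Fin 5), σ * a = a * σ) → σ = 1) := by
  decide +kernel

theorem alt5_commutator : commutator (alternatingGroup (Fin 5)) = ⊤ := by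
  haveI : IsSimpleGroup (alternatingGroup (Fin 5)) := alternatingGroup.isSimpleGroup_five
  refine ((inferInstance : (commutator (alternatingGroup (Fin 5))).Normal).eq_bot_or_eq_top).resolve_left fun h => ?_
  have hab : ∀ a b : alternatingGroup (Fin 5), a * b = b * a := fun a b => by
    have : ⁅a, b⁆ ∈ commutator (alternatingGroup (Fin 5)) :=
      Subgroup.commutator_mem_commutator (Subgroup.mem_top a) (Subgroup.mem_top b)
    rw [h, Subgroup.mem_bot] at this
    exact commutatorElement_eq_one_iff_mul_comm.1 this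
  revert hab
  decide +kernel

variable {G : Type*} [Group G] [Finite G] {Q C : Subgroup G} {z : G}

/-- The elements of `Q` commuting with a given one do not all commute. -/
theorem exists_noncomm (he : Extra Q z) (h32 : Nat.card Q = 32) {q : G} (hq : q ∈ Q) :
    ∃ a ∈ Q, ∃ b ∈ Q, a * q = q * a ∧ b * q = q * b ∧ a * b ≠ b * a := by
  classical
  by_contra hne
  push Not at hne
  by_cases hc : ∀ y ∈ Q, y * q = q * y
  · have hsub : (Q : Set G) ⊆ {1, z} := fun a ha => by
      rcases he.mem_center_cases ha (fun b hb => hne a ha b hb (hc a ha) (hc b hb)) with e | e <;> simp [e]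
    have := Set.ncard_le_ncard hsub (Set.toFinite _)
    rw [← Nat.card_coe_set_eq, SetLike.coe_sort_coe, h32, Set.ncard_pair (Ne.symm he.z_ne)] at this
    omega
  push Not at hc
  obtain ⟨x, hx, hxq⟩ := hc
  have hflip : ∀ {y : G}, y ∈ Q → y * q ≠ q * y → y * q * y⁻¹ = q * z :=
    fun hy h => he.conj_eq_of_not_comm hq hy h
  have hmul : ∀ {y : G}, y ∈ Q → y * q ≠ q * y → y * x * q = q * (y * x) := by
    intro y hy hyq
    apply mul_inv_eq_iff_eq_mul.1
    calc y * x * q * (y * x)⁻¹ = y * (x * q * x⁻¹) * y⁻¹ := by group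
      _ = y * q * y⁻¹ * (y * z * y⁻¹) := by rw [hflip hx hxq]; group
      _ = q := by rw [hflip hy hyq, ← he.z_comm hy, mul_inv_cancel_right, mul_assoc, he.z_sq, mul_one]
  have hcen : ∀ {a : G}, a ∈ Q → a * q = q * a → a * x = x * a → a = 1 ∨ a = z := by
    intro a ha haq hax
    refine he.mem_center_cases ha fun b hb => ?_
    by_cases hbq : b * q = q * b
    · exact hne a ha b hb haq hbq
    · have h1 := hne a ha (b * x) (mul_mem hb hx) haq (hmul hb hbq)
      rw [← mul_assoc, mul_assoc b x a, ← hax, ← mul_assoc b a x] at h1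
      exact mul_right_cancel h1
  obtain ⟨a₀, ha₀⟩ : ∃ a₀ : G, ∀ a ∈ Q, a * q = q * a → a = 1 ∨ a = z ∨ a = a₀ ∨ a = a₀ * z := by
    by_cases hall : ∀ a ∈ Q, a * q = q * a → a * x = x * a
    · exact ⟨1, fun a ha haq => (hcen ha haq (hall a ha haq)).imp id Or.inl⟩
    push Not at hall
    obtain ⟨a₁, ha₁, ha₁q, ha₁x⟩ := hall
    refine ⟨a₁⁻¹, fun a ha haq => ?_⟩
    by_cases hax : a * x = x * a
    · exact (hcen ha haq hax).imp id Or.inl
    have h1 : a₁ * a * x = x * (a₁ * a) := by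
      apply mul_inv_eq_iff_eq_mul.1
      calc a₁ * a * x * (a₁ * a)⁻¹ = a₁ * (a * x * a⁻¹) * a₁⁻¹ := by group
        _ = a₁ * x * a₁⁻¹ * (a₁ * z * a₁⁻¹) := by rw [he.conj_eq_of_not_comm hx ha hax]; group
        _ = x := by
          rw [he.conj_eq_of_not_comm hx ha₁ ha₁x, ← he.z_comm ha₁, mul_inv_cancel_right, mul_assoc, he.z_sq, mul_one]
    have h2 : a₁ * a * q = q * (a₁ * a) :=
      ((show Commute a₁ q from ha₁q).mul_left (show Commute a q from haq)).eq
    rcases hcen (mul_mem ha₁ ha) h2 h1 with e | e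
    · exact Or.inr (Or.inr (Or.inl (inv_eq_of_mul_eq_one_right e).symm))
    · exact Or.inr (Or.inr (Or.inr (eq_inv_mul_of_mul_eq e)))
  have hsub : (Q : Set G) ⊆ ({1, z, a₀, a₀ * z} : Set G) ∪ (fun a => a * x⁻¹) '' {1, z, a₀, a₀ * z} := by
    intro a ha
    by_cases haq : a * q = q * a
    · exact Or.inl (by rcases ha₀ a ha haq with e | e | e | e <;> simp [e])
    · exact Or.inr ⟨a * x, by rcases ha₀ _ (mul_mem ha hx) (hmul ha haq) with e | e | e | e <;> simp [e],
        mul_inv_cancel_right a x⟩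
  have h4 : ({1, z, a₀, a₀ * z} : Set G).ncard ≤ 4 := by
    refine (Set.ncard_insert_le _ _).trans ?_
    refine Nat.succ_le_succ ((Set.ncard_insert_le _ _).trans ?_)
    exact Nat.succ_le_succ ((Set.ncard_insert_le _ _).trans (by simp))
  have := (Set.ncard_le_ncard hsub (Set.toFinite _)).trans (Set.ncard_union_le _ _)
  have h8 := Set.ncard_image_le (f := fun a => a * x⁻¹) (Set.toFinite ({1, z, a₀, a₀ * z} : Set G))
  rw [← Nat.card_coe_set_eq, SetLike.coe_sort_coe, h32] at this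
  omega

theorem comm_of_sq {a b : G} (ha : a * a = 1) (hb : b * b = 1) (hab : a * b * (a * b) = 1) : a * b = b * a := by
  have h := (mul_eq_one_iff_eq_inv.1 hab)
  rwa [mul_inv_rev, inv_eq_of_mul_eq_one_right ha, inv_eq_of_mul_eq_one_right hb] at h

namespace Hyp

variable (h : Hyp Q C z)
include h

theorem mem_C {g : G} : g ∈ C ↔ g * z = z * g := by rw [h.cC, Subgroup.mem_centralizer_singleton_iff]

theorem noncomm : ¬ IsMulCommutative G := by
  intro hc
  obtain ⟨π, hπ, -⟩ := h.quot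
  have hab : ∀ a b : alternatingGroup (Fin 5), a * b = b * a := fun a b => by
    obtain ⟨a', rfl⟩ := hπ a
    obtain ⟨b', rfl⟩ := hπ b
    rw [← map_mul, ← map_mul, show a' * b' = b' * a' from Subtype.ext (hc.is_comm.comm (a' : G) b')]
  revert hab
  decide +kernel

/-- The involution is not isolated. -/
theorem exists_conj [IsSimpleGroup G] : ∃ g : G, Commute z (g * z * g⁻¹) ∧ g * z * g⁻¹ ≠ z := by
  classical
  by_contra hne
  push Not at hne
  have hiso : Cfsg.IsIsolatedInvolution z := ⟨h.hz, hne⟩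
  haveI := CfsgLib.Involution.ZStar.oddCore_normal (G := G)
  have hcore : Cfsg.oddCore G = ⊥ := by
    refine (Subgroup.Normal.eq_bot_or_eq_top (H := Cfsg.oddCore G) inferInstance).resolve_right fun e => ?_
    have hodd := CfsgLib.Involution.ZStar.odd_card_oddCore (G := G)
    rw [e, Subgroup.card_top] at hodd
    exact (Nat.not_even_iff_odd.2 hodd) (even_iff_two_dvd.2 (h.hz ▸ orderOf_dvd_natCard z))
  have hzc : z ∈ Subgroup.center G := Subgroup.mem_center_iff.2 fun g => by
    have e := CfsgLib.Involution.ZStar.comm_mem_oddCore hiso g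
    rw [hcore, Subgroup.mem_bot, mul_inv_eq_one, mul_inv_eq_iff_eq_mul] at e
    exact e.symm
  have htop : Subgroup.center G = ⊤ :=
    (Subgroup.Normal.eq_bot_or_eq_top (H := Subgroup.center G) inferInstance).resolve_left fun e => by
      rw [e, Subgroup.mem_bot] at hzc
      exact ne_one h.hz hzc
  exact h.noncomm ⟨⟨fun a b => (Subgroup.mem_center_iff.1 (htop ▸ Subgroup.mem_top b : b ∈ Subgroup.center G) a)⟩⟩

/-- The extraspecial group contains its centraliser. -/
theorem cent_le [IsSimpleGroup G] : ∀ c ∈ C, (∀ q ∈ Q, c * q * c⁻¹ = q) → c ∈ Q := by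
  classical
  haveI : IsSimpleGroup (alternatingGroup (Fin 5)) := alternatingGroup.isSimpleGroup_five
  obtain ⟨π, hπ, hker⟩ := h.quot
  have hmem : ∀ c : ↥C, π c = 1 ↔ (c : G) ∈ Q := fun c => by
    rw [← MonoidHom.mem_ker, hker, Subgroup.mem_subgroupOf]
  let D : Subgroup G := C ⊓ Subgroup.centralizer (Q : Set G)
  have hDc : ∀ d ∈ D, ∀ q ∈ Q, q * d = d * q := fun d hd => Subgroup.mem_centralizer_iff.1 hd.2
  suffices hD : ∀ d : ↥C, (d : G) ∈ D → π d = 1 by
    intro c hc hfix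
    exact (hmem ⟨c, hc⟩).1 (hD ⟨c, hc⟩ ⟨hc, Subgroup.mem_centralizer_iff.2 fun q hq =>
      (mul_inv_eq_iff_eq_mul.1 (hfix q hq)).symm⟩)
  have hn : (D.subgroupOf C).Normal := ⟨fun d hd c => by
    rw [Subgroup.mem_subgroupOf] at hd ⊢
    refine ⟨(c * d * c⁻¹).2, Subgroup.mem_centralizer_iff.2 fun q hq => ?_⟩
    have hq' : (c : G)⁻¹ * q * c ∈ Q := by
      have := h.norm _ (inv_mem c.2) q hq
      rwa [inv_inv] at this
    show q * ((c : G) * d * (c : G)⁻¹) = (c : G) * d * (c : G)⁻¹ * q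
    calc q * ((c : G) * d * (c : G)⁻¹) = (c : G) * ((c : G)⁻¹ * q * c * d) * (c : G)⁻¹ := by group
      _ = _ := by rw [hDc _ hd _ hq']; group⟩
  rcases (Subgroup.Normal.map hn π hπ).eq_bot_or_eq_top with e | e
  · intro d hd
    have : π d ∈ (D.subgroupOf C).map π := ⟨d, hd, rfl⟩
    rwa [e, Subgroup.mem_bot] at this
  exfalso
  have hdec : ∀ c : ↥C, ∃ d : ↥C, (d : G) ∈ D ∧ π d = π c ∧ (c : G) * (d : G)⁻¹ ∈ Q := by
    intro c
    obtain ⟨d, hd, he⟩ : π c ∈ (D.subgroupOf C).map π := by rw [e]; trivial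
    exact ⟨d, hd, he, (hmem (c * d⁻¹)).1 (by rw [map_mul, map_inv, he, mul_inv_cancel])⟩
  -- a conjugate of `z` inside `Q`
  obtain ⟨g, hgc, hgne⟩ := h.exists_conj
  have hzz : z * z = 1 := mul_self h.hz
  let w := g * z * g⁻¹
  have hwC : w ∈ C := h.mem_C.2 hgc.symm.eq
  let u := g⁻¹ * z * g
  have huC : u ∈ C := h.mem_C.2 (by
    calc g⁻¹ * z * g * z = g⁻¹ * (z * w) * g := by simp only [w]; group
      _ = g⁻¹ * (w * z) * g := by rw [show z * w = w * z from hgc]
      _ = z * (g⁻¹ * z * g) := by simp only [w]; group)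
  obtain ⟨d, hdD, -, hq⟩ := hdec ⟨w, hwC⟩
  obtain ⟨a, ha, b, hb, haq, hbq, hab⟩ := exists_noncomm h.extra h.card_Q hq
  have hcomw : ∀ y ∈ Q, y * (w * (d : G)⁻¹) = w * (d : G)⁻¹ * y → y * w = w * y := by
    intro y hy hyq
    calc y * w = y * (w * (d : G)⁻¹) * d := by group
      _ = w * (d : G)⁻¹ * (y * d) := by rw [hyq]; group
      _ = w * y := by rw [hDc _ hdD y hy]; group
  have hback : ∀ y ∈ Q, y * w = w * y → g⁻¹ * y * g ∈ C := fun y hy hyw => h.mem_C.2 (by
    calc g⁻¹ * y * g * z = g⁻¹ * (y * w) * g := by simp only [w]; group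
      _ = g⁻¹ * (w * y) * g := by rw [hyw]
      _ = z * (g⁻¹ * y * g) := by simp only [w]; group)
  have hcom : ∀ y ∈ Q, (g⁻¹ * y * g) * u = u * (g⁻¹ * y * g) := fun y hy => by
    calc g⁻¹ * y * g * (g⁻¹ * z * g) = g⁻¹ * (y * z) * g := by group
      _ = g⁻¹ * (z * y) * g := by rw [h.extra.z_comm hy]
      _ = g⁻¹ * z * g * (g⁻¹ * y * g) := by group
  have huQ : u ∈ Q := by
    refine (hmem ⟨u, huC⟩).1 ?_
    by_contra hne
    have hσ : π ⟨u, huC⟩ * π ⟨u, huC⟩ = 1 := by
      rw [← map_mul, show (⟨u, huC⟩ : ↥C) * ⟨u, huC⟩ = 1 from Subtype.ext (show u * u = 1 by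
        simp only [u]; rw [show g⁻¹ * z * g * (g⁻¹ * z * g) = g⁻¹ * (z * z) * g by group, hzz]; group), map_one]
    let a' : ↥C := ⟨g⁻¹ * a * g, hback a ha (hcomw a ha haq)⟩
    let b' : ↥C := ⟨g⁻¹ * b * g, hback b hb (hcomw b hb hbq)⟩
    have hπab := alt5_facts.1 _ hσ hne (π a')
      (by rw [← map_mul, ← map_mul]; exact congrArg π (Subtype.ext (hcom a ha))) (π b')
      (by rw [← map_mul, ← map_mul]; exact congrArg π (Subtype.ext (hcom b hb)))
    have hcomm : a * b = b * a * z :=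
      ((h.extra.conj_cases hb ha).resolve_left fun e => hab (mul_inv_eq_iff_eq_mul.1 e)) |> fun e => by
        rw [mul_inv_eq_iff_eq_mul] at e
        rw [e, mul_assoc, h.extra.z_comm ha, ← mul_assoc]
    refine hne ?_
    have e' : a' * b' = b' * a' * ⟨u, huC⟩ := Subtype.ext (show g⁻¹ * a * g * (g⁻¹ * b * g) =
        g⁻¹ * b * g * (g⁻¹ * a * g) * (g⁻¹ * z * g) by
      calc g⁻¹ * a * g * (g⁻¹ * b * g) = g⁻¹ * (a * b) * g := by group
        _ = _ := by rw [hcomm]; group)
    have h2 := congrArg π e'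
    rw [map_mul, map_mul, map_mul, hπab] at h2
    exact mul_eq_left.1 h2.symm
  have hu1 : u ≠ 1 := fun e' => h.extra.z_ne (by
    calc z = g * u * g⁻¹ := by simp only [u]; group
      _ = 1 := by rw [e']; group)
  have huz : u ≠ z := fun e' => hgne (by
    calc g * z * g⁻¹ = g * u * g⁻¹ := by rw [e']
      _ = z := by simp only [u]; group)
  -- the derived subgroups of the centraliser
  let conjG : G →* G := (MulAut.conj g⁻¹).toMonoidHom
  have hconjG : ∀ x, conjG x = g⁻¹ * x * g := fun x => by simp [conjG]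
  have hinj : Function.Injective conjG := (MulAut.conj g⁻¹).injective
  have hDC : D ≤ C.map conjG := fun x hx => by
    refine ⟨g * x * g⁻¹, h.mem_C.2 ?_, by rw [hconjG]; group⟩
    calc g * x * g⁻¹ * z = g * (x * u) * g⁻¹ := by simp only [u]; group
      _ = g * (u * x) * g⁻¹ := by rw [hDc x hx u huQ]
      _ = z * (g * x * g⁻¹) := by simp only [u]; group
  have hzD : z ∈ D :=
    ⟨h.le h.extra.z_mem, Subgroup.mem_centralizer_iff.2 fun q hq => (h.extra.z_comm hq).symm⟩
  have hC1 : ⁅C, C⁆ ≤ D := by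
    refine Subgroup.commutator_le.2 fun x hx y hy => ?_
    obtain ⟨d₁, hd₁, -, hq₁⟩ := hdec ⟨x, hx⟩
    obtain ⟨d₂, hd₂, -, hq₂⟩ := hdec ⟨y, hy⟩
    dsimp only at hq₁ hq₂
    obtain ⟨q₁, hq₁', rfl⟩ : ∃ q ∈ Q, q * (d₁ : G) = x := ⟨_, hq₁, by group⟩
    obtain ⟨q₂, hq₂', rfl⟩ : ∃ q ∈ Q, q * (d₂ : G) = y := ⟨_, hq₂, by group⟩
    have hqD : ⁅q₁, q₂⁆ ∈ D := by
      rw [commutatorElement_def]
      rcases h.extra.conj_cases hq₂' hq₁' with e' | e' <;> rw [e']
      · rw [mul_inv_cancel]; exact one_mem D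
      · rw [← h.extra.z_comm hq₂', mul_inv_cancel_right]; exact hzD
    have e' : ⁅q₁ * (d₁ : G), q₂ * (d₂ : G)⁆ = ⁅q₁, q₂⁆ * ⁅(d₁ : G), (d₂ : G)⁆ := by
      simp only [commutatorElement_def, mul_inv_rev]
      have h1 : Commute (d₁ : G) q₂ := (hDc _ hd₁ _ hq₂').symm
      have h2 : Commute (d₂ : G) q₁ := (hDc _ hd₂ _ hq₁').symm
      have h3 : Commute q₁ (d₁ : G) := hDc _ hd₁ _ hq₁'
      have h4 : Commute q₂ (d₂ : G) := hDc _ hd₂ _ hq₂'
      calc q₁ * d₁ * (q₂ * d₂) * ((d₁ : G)⁻¹ * q₁⁻¹) * ((d₂ : G)⁻¹ * q₂⁻¹)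
          = q₁ * (d₁ * q₂) * d₂ * ((d₁ : G)⁻¹ * q₁⁻¹) * ((d₂ : G)⁻¹ * q₂⁻¹) := by group
        _ = q₁ * q₂ * (d₁ * d₂ * (d₁ : G)⁻¹) * (q₁⁻¹ * (d₂ : G)⁻¹) * q₂⁻¹ := by rw [h1.eq]; group
        _ = q₁ * q₂ * ((d₁ * d₂ * (d₁ : G)⁻¹ * (d₂ : G)⁻¹) * (q₁⁻¹ * q₂⁻¹)) := by
            rw [h2.symm.inv_inv.eq]; group
        _ = q₁ * q₂ * ((q₁⁻¹ * q₂⁻¹) * (d₁ * d₂ * (d₁ : G)⁻¹ * (d₂ : G)⁻¹)) := by
            rw [((((h3.symm.mul_left h2).mul_left h3.symm.inv_left).mul_left h2.inv_left).inv_right.mul_right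
              (((h1.mul_left h4.symm).mul_left h1.inv_left).mul_left h4.symm.inv_left).inv_right).eq]
        _ = _ := by group
    rw [e']
    refine mul_mem hqD ?_
    rw [commutatorElement_def]
    exact mul_mem (mul_mem (mul_mem hd₁ hd₂) (inv_mem hd₁)) (inv_mem hd₂)
  let der : ℕ → Subgroup G := fun n => Nat.rec C (fun _ H => ⁅H, H⁆) n
  have hder : ∀ n, der (n + 1) = ⁅der n, der n⁆ := fun n => rfl
  have hle : ∀ n, der n ≤ C := by
    intro n
    induction n with
    | zero => exact le_refl C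
    | succ n ih => exact (hder n).trans_le ((Subgroup.commutator_mono ih ih).trans (hC1.trans inf_le_left))
  have hanti : ∀ n, der (n + 1) ≤ der n := by
    intro n
    induction n with
    | zero => exact hC1.trans inf_le_left
    | succ n ih => exact Subgroup.commutator_mono ih ih
  have hsurj : ∀ n, ∀ σ, ∃ x : ↥C, (x : G) ∈ der n ∧ π x = σ := by
    intro n
    induction n with
    | zero => exact fun σ => let ⟨x, hx⟩ := hπ σ; ⟨x, x.2, hx⟩
    | succ n ih =>
      have htop : ((der n).subgroupOf C).map π = ⊤ := eq_top_iff.2 fun σ _ => let ⟨x, hx, hσ⟩ := ih σ; ⟨x, hx, hσ⟩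
      have hall : (⁅(der n).subgroupOf C, (der n).subgroupOf C⁆).map π = ⊤ := by
        rw [Subgroup.map_commutator, htop, ← _root_.commutator_def, alt5_commutator]
      intro σ
      obtain ⟨x, hx, hσ⟩ : σ ∈ (⁅(der n).subgroupOf C, (der n).subgroupOf C⁆).map π := hall ▸ trivial
      refine ⟨x, ?_, hσ⟩
      rw [hder]
      have : (x : G) ∈ (⁅(der n).subgroupOf C, (der n).subgroupOf C⁆).map C.subtype := ⟨x, hx, rfl⟩
      rw [Subgroup.map_commutator, Subgroup.map_subgroupOf_eq_of_le (hle n)] at this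
      exact this
  have hin : ∀ n, der (n + 2) ≤ (der (n + 1)).map conjG := by
    intro n
    induction n with
    | zero =>
      show ⁅⁅C, C⁆, ⁅C, C⁆⁆ ≤ ⁅C, C⁆.map conjG
      rw [Subgroup.map_commutator]
      exact Subgroup.commutator_mono (hC1.trans hDC) (hC1.trans hDC)
    | succ n ih =>
      rw [hder (n + 2), hder (n + 1)]
      exact (Subgroup.commutator_mono ih ih).trans (Subgroup.map_commutator _ _ _).ge
  have hsmall : ∀ n, ∀ x ∈ der (n + 1), x ∈ Q → x = 1 ∨ x = z := fun n x hx hxQ => by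
    have hxD : x ∈ D := by
      induction n generalizing x with
      | zero => exact hC1 hx
      | succ n ih => exact ih x (hanti (n + 1) hx) hxQ
    exact h.extra.mem_center_cases hxQ fun q hq => (hDc x hxD q hq).symm
  have habove : ∀ n, z ∈ der (n + 2) ∨ z ∉ der (n + 1) → der (n + 1) ≤ der (n + 2) := by
    intro n hzn x hx
    obtain ⟨y, hy, hσ⟩ := hsurj (n + 2) (π ⟨x, hle (n + 1) hx⟩)
    have hxy : x * (y : G)⁻¹ ∈ Q := (hmem (⟨x, hle (n + 1) hx⟩ * y⁻¹)).1 (by rw [map_mul, map_inv, hσ, mul_inv_cancel])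
    have hxy' : x * (y : G)⁻¹ ∈ der (n + 1) := mul_mem hx (inv_mem (hanti (n + 1) hy))
    rcases hsmall n _ hxy' hxy with e' | e'
    · rw [mul_inv_eq_one] at e'; rw [e']; exact hy
    · rw [mul_inv_eq_iff_eq_mul] at e'
      rw [e']
      rcases hzn with hz' | hz'
      · exact mul_mem hz' hy
      · exact absurd (mul_inv_eq_iff_eq_mul.2 e' ▸ hxy') hz'
  obtain ⟨n, hn⟩ : ∃ n, der (n + 1) ≤ der (n + 2) := by
    by_cases hz2 : z ∈ der 2
    · exact ⟨0, habove 0 (Or.inl hz2)⟩
    · exact ⟨1, habove 1 (Or.inr hz2)⟩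
  have hR : (der (n + 1)).map conjG = der (n + 1) := by
    refine (Subgroup.eq_of_le_of_card_ge (hn.trans (hin n)) ?_).symm
    rw [Subgroup.card_map_of_injective hinj]
  have hRD : der (n + 1) ≤ D := by
    clear habove hR hn
    induction n with
    | zero => exact hC1
    | succ n ih => exact (hanti (n + 1)).trans ih
  -- the centraliser of `u` in `Q`
  have key : ∀ y ∈ Q, y * u = u * y → y * y = 1 := by
    intro y hy hyu
    let y' := g * y * g⁻¹
    have hy'C : y' ∈ C := h.mem_C.2 (by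
      calc g * y * g⁻¹ * z = g * (y * u) * g⁻¹ := by simp only [u]; group
        _ = g * (u * y) * g⁻¹ := by rw [hyu]
        _ = z * (g * y * g⁻¹) := by simp only [u]; group)
    have hy'R : ∀ x ∈ der (n + 1), y' * x = x * y' := by
      intro x hx
      have hx' : conjG x ∈ der (n + 1) := hR ▸ ⟨x, hx, rfl⟩
      have hc := hDc _ (hRD hx') y hy
      rw [hconjG] at hc
      calc g * y * g⁻¹ * x = g * (y * (g⁻¹ * x * g)) * g⁻¹ := by group
        _ = _ := by rw [hc]; simp only [y']; group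
    have hy'Q : y' ∈ Q := (hmem ⟨y', hy'C⟩).1 (alt5_facts.2 _ fun σ => by
      obtain ⟨x, hx, rfl⟩ := hsurj (n + 1) σ
      rw [← map_mul, ← map_mul]
      exact congrArg π (Subtype.ext (hy'R x hx)))
    rcases h.extra.sq_cases hy with e' | e'
    · exact e'
    rcases h.extra.sq_cases hy'Q with e'' | e''
    · calc y * y = g⁻¹ * (y' * y') * g := by simp only [y']; group
        _ = 1 := by rw [e'']; group
    · exfalso
      refine huz ?_
      calc g⁻¹ * z * g = g⁻¹ * (y' * y') * g := by rw [e'']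
        _ = z := by rw [← e']; simp only [y']; group
  obtain ⟨a, ha, b, hb, hau, hbu, hab⟩ := exists_noncomm h.extra h.card_Q huQ
  exact hab (comm_of_sq (key a ha hau) (key b hb hbu)
    (key _ (mul_mem ha hb) ((show Commute a u from hau).mul_left (show Commute b u from hbu)).eq))

end Hyp

end CfsgLib.SmallGroups.J3Order
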