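import Cfsg.Agent.Lib.SmallGroups.J3Order.Outer
import Cfsg.Agent.Lib.Characterizations.HallJanko.Uniq.Hypotheses
import Cfsg.Agent.Lib.Characterizations.HallJanko.Order

/-!
# The centraliser `2^{1+4}·A₅` of an involution of a simple group is the split extension

Either there are two classes of involutions and the order is that of the Hall–Janko group, or there is one.
-/

set_option autoImplicit false
set_option linter.style.haveILetI false
set_option linter.unusedSectionVars false

namespace CfsgLib.SmallGroups.J3Order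

open CfsgLib.Characterizations.HallJankoCount
open CfsgLib.Characterizations.HallJanko (exists_setting HJ)
open CfsgLib.Characterizations.HallJanko.Uniq (Cent)
open CfsgLib.Involution.Dihedral
open CfsgLib.ThreeTransp.Extraspecial (Extra exists_extra)

variable {G : Type*} [Group G] [Finite G]

theorem exists_hyp (t : G) (ht : orderOf t = 2) (E : Subgroup (Subgroup.centralizer ({t} : Set G))) [E.Normal]
    (hE : Nat.card E = 32) (hX : Cfsg.IsExtraspecial 2 E)
    (e : (Subgroup.centralizer ({t} : Set G)) ⧸ E ≃* alternatingGroup (Fin 5)) :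
    ∃ Q : Subgroup G, Hyp Q (Subgroup.centralizer ({t} : Set G)) t := by
  classical
  generalize hC : Subgroup.centralizer ({t} : Set G) = C at *
  have hcent : ∀ c ∈ C, c * t = t * c := fun c hc =>
    Subgroup.mem_centralizer_singleton_iff.1 (by rw [hC]; exact hc)
  have htC : t ∈ C := by rw [← hC]; exact Subgroup.mem_centralizer_singleton_iff.2 rfl
  let π : ↥C →* alternatingGroup (Fin 5) := e.toMonoidHom.comp (QuotientGroup.mk' E)
  have hπ : Function.Surjective π := e.surjective.comp (QuotientGroup.mk'_surjective E)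
  have hker : ∀ c : ↥C, π c = 1 ↔ c ∈ E := fun c =>
    (map_eq_one_iff _ e.injective).trans (QuotientGroup.eq_one_iff c)
  let Q : Subgroup G := E.map C.subtype
  have eQ : ↥E ≃* ↥Q := Subgroup.equivMapOfInjective _ _ C.subtype_injective
  have hback : ∀ c : ↥C, (c : G) ∈ Q → c ∈ E := fun c ⟨c', hc', he⟩ => (Subtype.ext he : c' = c) ▸ hc'
  have htE : (⟨t, htC⟩ : ↥C) ∈ E := (hker _).1 (alt5_facts.2 _ fun σ => by
    obtain ⟨c, rfl⟩ := hπ σ
    rw [← map_mul, ← map_mul]
    exact congrArg π (Subtype.ext (hcent c c.2).symm))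
  have htQ : t ∈ Q := ⟨_, htE, rfl⟩
  have hextra : Extra Q t := by
    obtain ⟨z', hz'⟩ := exists_extra (isExtraspecial_congr eQ hX)
    rcases hz'.mem_center_cases htQ (fun q hq => (hcent q (Subgroup.map_subtype_le _ hq)).symm) with h | h
    · exact absurd h (ne_one ht)
    · exact h ▸ hz'
  refine ⟨Q, ht, hC.symm, hextra, by rw [← Nat.card_congr eQ.toEquiv, hE], Subgroup.map_subtype_le _, ?_,
    π, hπ, ?_⟩
  · rintro c hc _ ⟨q, hq, rfl⟩
    exact ⟨⟨c, hc⟩ * q * ⟨c, hc⟩⁻¹, Subgroup.Normal.conj_mem inferInstance q hq _, rfl⟩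
  · ext c
    rw [MonoidHom.mem_ker, hker, Subgroup.mem_subgroupOf]
    exact ⟨fun hc => ⟨c, hc, rfl⟩, hback c⟩

variable {Q C : Subgroup G} {z : G}

theorem Hyp.exists_cent [IsSimpleGroup G] (h : Hyp Q C z) : ∃ K : Subgroup G, Cent z Q K := by
  obtain ⟨K, hs, -, hsup⟩ := exists_setting h.base
  exact ⟨K, hs, by rw [hsup, h.cC], fun c hc => h.cent_le c (by rw [h.cC]; exact hc)⟩

/-- Every involution is conjugate into the centraliser. -/
theorem Hyp.conj_into [IsSimpleGroup G] (h : Hyp Q C z) (x : G) (hx : orderOf x = 2) :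
    ∃ g : G, g * x * g⁻¹ ∈ Subgroup.centralizer ({z} : Set G) := by
  classical
  haveI : Fact (Nat.Prime 2) := ⟨Nat.prime_two⟩
  obtain ⟨S, hS⟩ := h.extra.isPGroup.exists_le_sylow
  have hzS : z ∈ (S : Subgroup G) := hS h.extra.z_mem
  have hSC : (S : Subgroup G) ≤ Subgroup.centralizer ({z} : Set G) := by
    haveI : Nontrivial (S : Subgroup G) :=
      ⟨⟨⟨z, hzS⟩, 1, fun e => ne_one h.hz (congrArg Subtype.val e)⟩⟩
    haveI := S.2.center_nontrivial
    obtain ⟨w, hw⟩ := exists_ne (1 : Subgroup.center (S : Subgroup G))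
    have hwc : ∀ s ∈ (S : Subgroup G), s * ((w : (S : Subgroup G)) : G) = ((w : (S : Subgroup G)) : G) * s :=
      fun s hs => congrArg Subtype.val (Subgroup.mem_center_iff.1 w.2 ⟨s, hs⟩)
    have hwQ : ((w : (S : Subgroup G)) : G) ∈ Q := h.cent_le _ (h.mem_C.2 (hwc z hzS).symm)
      fun q hq => by rw [← hwc q (hS hq), mul_inv_cancel_right]
    rcases h.extra.mem_center_cases hwQ (fun q hq => (hwc q (hS hq)).symm) with e | e
    · exact absurd (Subtype.ext (Subtype.ext e)) hw
    · intro s hs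
      exact Subgroup.mem_centralizer_singleton_iff.2 (e ▸ hwc s hs)
  obtain ⟨T, hT⟩ := (IsPGroup.of_card (G := Subgroup.zpowers x) (p := 2) (n := 1)
    (by rw [Nat.card_zpowers, hx, pow_one])).exists_le_sylow
  obtain ⟨g, hg⟩ := MulAction.exists_smul_eq G T S
  exact ⟨g, hSC (hg ▸ ⟨x, hT (Subgroup.mem_zpowers x), rfl⟩)⟩

/-- With two classes of involutions the order is `604800`. -/
theorem card_of_two [IsSimpleGroup G] (h : Hyp Q C z)
    (htwo : ∃ x y : G, orderOf x = 2 ∧ orderOf y = 2 ∧ ¬ IsConj x y) : Nat.card G = 604800 := by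
  obtain ⟨K, hK⟩ := h.exists_cent
  obtain ⟨g, hgc, hgne⟩ := h.exists_conj
  obtain ⟨a, haQ, hane⟩ :=
    CfsgLib.Characterizations.HallJanko.Uniq.exists_conj_mem h.hz hK htwo hgc hgne h.conj_into
  have hfused : ∃ u ∈ invs Q z, IsConj z u :=
    ⟨a * z * a⁻¹, ⟨haQ, by rw [conj_mul, mul_self h.hz, mul_one, mul_inv_cancel],
      fun e => h.extra.z_ne (conj_eq_one_iff.1 e), hane⟩, isConj_iff.2 ⟨a, rfl⟩⟩
  have hJ : HJ z Q K := ⟨h.hz, hK.setting, hK.sup, hfused, hK.cent_le, htwo⟩
  obtain ⟨t, P, B, hd⟩ := hJ.exists_data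
  exact hd.card

end CfsgLib.SmallGroups.J3Order
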