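import Cfsg.Agent.Lib.SmallGroups.J3Order.Values
import Cfsg.Agent.Lib.SmallGroups.BlockDegrees
import Cfsg.Agent.S0840

/-!
# The integer table attached to the section of the involution
-/

set_option autoImplicit false
set_option maxRecDepth 100000
set_option linter.style.haveILetI false
set_option linter.unusedSectionVars false

open scoped ComplexConjugate

namespace CfsgLib.SmallGroups.J3Order

open Conc Cfsg

/-- The six generalised characters on the seven classes of the section. -/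
def bMat : List (List ℤ) := [[-8, 4, 4, -8, -2, -2, -32], [8, 2, 0, 4, -2, -2, -32], [8, 2, 4, -4, 2, 2, 32],
  [-12, 0, -2, 0, 2, 2, -48], [-8, -2, 4, 4, -2, -2, -32], [-8, 4, 0, 8, 2, 2, 32]]

/-- The class lengths in the centraliser. -/
def sLen : List ℕ := [20, 160, 240, 80, 192, 192, 1]

/-- The centraliser orders. -/
def sCent : List ℕ := [96, 12, 8, 24, 10, 10, 1920]

/-- The numbers of factorisations into two involutions. -/
def sPairs : List ℕ := [28, 12, 8, 12, 10, 10, 130]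

/-- The Gram matrix of the six generalised characters. -/
def gram : List (List ℤ) := [[8, 0, 2, 0, 2, -2], [0, 3, -1, -1, 1, 0], [2, -1, 5, -2, -1, 0],
  [0, -1, -2, 4, 0, 1], [2, 1, -1, 0, 5, 0], [-2, 0, 0, 1, 0, 6]]

/-- The multiplicities of the trivial character. -/
def trv : List ℤ := [0, 0, 1, 0, 0, 1]

/-- The value at the involution. -/
def valX (w : ℕ → ℤ) : ℤ := 2 * w 0 - 20 * w 1 - 9 * w 2 - 24 * w 3 - 5 * w 4 + 10 * w 5

/-- The value at the elements of order four. -/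
def valA (w : ℕ → ℤ) : ℤ := -2 * w 0 + 4 * w 1 + 3 * w 2 - w 4 - 2 * w 5

/-- The value at the elements of order eight. -/
def valC (w : ℕ → ℤ) : ℤ := w 2 + w 4

/-- The table. -/
structure Tbl (ι : Type*) [Fintype ι] where
  w : ι → ℕ → ℤ
  d : ι → ℕ
  i₀ : ι
  n : ℕ
  w0 : ∀ j < 6, w i₀ j = trv.getD j 0
  d0 : d i₀ = 1
  two : ∀ χ, χ ≠ i₀ → 2 ≤ d χ
  dvd : ∀ χ, d χ ∣ n
  sq : ∀ χ, d χ * d χ ≤ n
  cong : ∀ χ, (128 : ℤ) ∣ (d χ : ℤ) + 35 * valX (w χ) + 44 * valA (w χ) + 48 * valC (w χ)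
  le : ∀ χ, valX (w χ) * valX (w χ) ≤ (d χ : ℤ) * (d χ : ℤ)
  gram_eq : ∀ i < 6, ∀ j < 6, ∑ χ, w χ i * w χ j = (gram.getD i []).getD j 0
  deg : ∀ j < 6, ∑ χ, (d χ : ℤ) * w χ j = 0
  sumTH : (∑ χ, ((w χ 1 + w χ 2 + w χ 3 : ℤ) : ℚ) * ((valX (w χ) * valX (w χ) : ℤ) : ℚ) / (d χ : ℚ)) * (n : ℚ) =
    29184000
  sumT3 : (∑ χ, ((w χ 1 : ℤ) : ℚ) * ((valX (w χ) * valX (w χ) : ℤ) : ℚ) / (d χ : ℚ)) * (n : ℚ) = 614400
  n1920 : 1920 ∣ n
  n256 : ¬ 256 ∣ n
  npos : 0 < n

theorem data_facts : (∀ j < 6, target.getD j [] = 0 :: 0 :: 0 :: 0 ::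
      [(bMat.getD j []).getD 6 0, 20 * (bMat.getD j []).getD 0 0, 80 * (bMat.getD j []).getD 3 0,
       240 * (bMat.getD j []).getD 2 0, 160 * (bMat.getD j []).getD 1 0, 192 * (bMat.getD j []).getD 4 0,
       192 * (bMat.getD j []).getD 5 0]) ∧
    sect.length = 7 ∧ sectPow.length = 7 ∧ (∀ k < 7, sLen.getD k 0 * sCent.getD k 0 = 1920) ∧
    (∀ i < 6, ∀ j < 6, ((List.range 7).map fun k =>
      (sLen.getD k 0 : ℤ) * (bMat.getD i []).getD k 0 * (bMat.getD j []).getD k 0).sum =
        1920 * (gram.getD i []).getD j 0) ∧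
    (∀ j < 6, ((List.range 7).map fun k => (sLen.getD k 0 : ℤ) * (bMat.getD j []).getD k 0).sum =
        1920 * trv.getD j 0) ∧
    ((List.range 7).map fun k => (sLen.getD k 0 : ℤ) * (((bMat.getD 1 []).getD k 0) + (bMat.getD 2 []).getD k 0 +
      (bMat.getD 3 []).getD k 0) * (sPairs.getD k 0 : ℤ)).sum = 15200 ∧
    ((List.range 7).map fun k => (sLen.getD k 0 : ℤ) * ((bMat.getD 1 []).getD k 0) * (sPairs.getD k 0 : ℤ)).sum = 320 := by
  decide +kernel

/-- The seven representatives. -/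
def sx (k : ℕ) : ℕ := rp11 (sect.getD k 0)

theorem sect_orders : ∀ j < 7, 0 < 2 * sectPow.getD j 0 ∧ pw (sx j) (2 * sectPow.getD j 0) = 0 ∧
    ∀ m < 2 * sectPow.getD j 0, 0 < m → pw (sx j) m ≠ 0 := by decide +kernel

variable {G : Type*} [Group G] [Fintype G] {t : G} {ρ : ℕ → G}

theorem sx_lt (k : ℕ) : sx k < 1920 := rp11_lt _

theorem sx_list {k : ℕ} (hk : k < 7) : (sect.map rp11).getD k 0 = sx k := by
  have hl := data_facts.2.1
  rw [List.getD_eq_getElem (hn := by rw [List.length_map]; omega), List.getElem_map, sx,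
    List.getD_eq_getElem (hn := by omega)]

theorem Loc.sect_spec (h : Loc t ρ) {k : ℕ} (hk : k < 7) :
    ρ (sx k) ^ sectPow.getD k 0 = t ∧ IsConj (ρ (sx k)) (ρ (sx k))⁻¹ := by
  obtain ⟨-, hl1, hl2, -⟩ := data_facts
  have hm : (sx k, sectPow.getD k 0) ∈ (sect.map rp11).zip sectPow := by
    refine List.mem_iff_getElem.2 ⟨k, by simp [hl1, hl2, hk], ?_⟩
    rw [List.getElem_zip, List.getElem_map, sx, List.getD_eq_getElem (hn := by omega),
      List.getD_eq_getElem (hn := by omega)]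
  have hs := List.all_eq_true.1 sect_pow _ hm
  simp only [Bool.and_eq_true, beq_iff_eq, List.any_eq_true, List.mem_range] at hs
  obtain ⟨h1, g, hg, h2⟩ := hs
  refine ⟨by rw [← (h.pow (sx_lt k) _).1, h1, h.centre], isConj_iff.2 ⟨ρ g, ?_⟩⟩
  have := congrArg ρ h2
  rw [h.mul _ (h.lt _ (sx_lt k) _ hg) _ (sx_lt k), h.mul _ (sx_lt k) _ hg] at this
  refine eq_inv_of_mul_eq_one_right ?_
  calc ρ (sx k) * (ρ g * ρ (sx k) * (ρ g)⁻¹) = ρ (sx k) * ρ g * ρ (sx k) * (ρ g)⁻¹ := by group
    _ = 1 := by rw [this, mul_inv_cancel]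

theorem Loc.mem_of_conj (h : Loc t ρ) {k l : ℕ} (hk : k < 7) (hl : l < 7) {a : G}
    (ha : a * ρ (sx k) * a⁻¹ = ρ (sx l) ^ (1 : ℤ) ∨ a * ρ (sx k) * a⁻¹ = (ρ (sx l))⁻¹)
    (he : sectPow.getD k 0 = sectPow.getD l 0) : ∃ i < 1920, ρ i = a := by
  refine h.cover a ?_
  have h1 := (h.sect_spec hk).1
  have h2 := (h.sect_spec hl).1
  have hti : t⁻¹ = t := CfsgLib.Involution.Dihedral.inv_eq h.ht
  have e : a * t * a⁻¹ = t := by
    conv_lhs => rw [← h1, ← conj_pow]
    rcases ha with ha | ha <;> rw [ha]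
    · rw [zpow_one, he, h2]
    · rw [inv_pow, he, h2, hti]
  rwa [mul_inv_eq_iff_eq_mul] at e

theorem Loc.not_conj (h : Loc t ρ) {k l : ℕ} (hk : k < 7) (hl : l < 7) (hne : k ≠ l) :
    ¬ IsConj (ρ (sx k)) (ρ (sx l)) := by
  intro hc
  obtain ⟨a, ha⟩ := isConj_iff.1 hc
  by_cases he : sectPow.getD k 0 = sectPow.getD l 0
  · obtain ⟨i, hi, rfl⟩ := h.mem_of_conj hk hl (Or.inl (by rw [zpow_one]; exact ha)) he
    have hs := List.all_eq_true.1 (List.all_eq_true.1 sect_distinct k (List.mem_range.2 hk)) l (List.mem_range.2 hl)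
    simp only [Bool.or_eq_true, beq_iff_eq, List.all_eq_true, List.mem_range, Bool.not_eq_true',
      beq_eq_false_iff_ne, sx_list hk, sx_list hl] at hs
    refine hs.resolve_left hne i hi (h.inj _ (h.lt _ hi _ (sx_lt k)) _ (h.lt _ (sx_lt l) _ hi) ?_)
    rw [h.mul _ hi _ (sx_lt k), h.mul _ (sx_lt l) _ hi, ← ha, inv_mul_cancel_right]
  · have hord : ∀ j < 7, orderOf (ρ (sx j)) = 2 * sectPow.getD j 0 := fun j hj => by
      obtain ⟨hpos, h0, hlt⟩ := sect_orders j hj
      refine (orderOf_eq_iff hpos).2 ⟨?_, fun m hm hm0 => ?_⟩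
      · rw [← (h.pow (sx_lt j) _).1, h0, h.one]
      · rw [← (h.pow (sx_lt j) m).1, ← h.one]
        exact fun e => hlt m hm hm0 (h.inj _ (h.pow (sx_lt j) m).2 0 (by norm_num) e)
    have := congrArg orderOf ha
    rw [CfsgLib.Involution.Dihedral.orderOf_conj, hord k hk, hord l hl] at this
    exact he (by omega)

theorem Loc.card_cent (h : Loc t ρ) {k : ℕ} (hk : k < 7) :
    Nat.card (Subgroup.centralizer ({ρ (sx k)} : Set G)) = sCent.getD k 0 := by
  classical
  have hc : ((List.range 1920).filter fun g => J3Order.mul g (sx k) == J3Order.mul (sx k) g).length = sCent.getD k 0 := by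
    have := congrArg (fun L : List ℕ => L.getD k 0) cent_counts
    rw [List.getD_eq_getElem (hn := by simp [data_facts.2.1, hk]), List.getElem_map, List.getElem_map] at this
    rw [show sx k = rp11 (sect[k]'(by rw [data_facts.2.1]; exact hk)) by
      rw [sx, List.getD_eq_getElem]]
    exact this
  rw [← hc, ← List.toFinset_card_of_nodup (List.nodup_range.filter _), Nat.card_eq_fintype_card, Fintype.card_subtype]
  refine (Finset.card_bij (fun i _ => ρ i) ?_ ?_ ?_).symm
  · intro i hi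
    simp only [List.mem_toFinset, List.mem_filter, List.mem_range, beq_iff_eq] at hi
    simp only [Finset.mem_filter, Finset.mem_univ, true_and, Subgroup.mem_centralizer_singleton_iff]
    rw [← h.mul _ hi.1 _ (sx_lt k), hi.2, h.mul _ (sx_lt k) _ hi.1]
  · intro i hi j hj e
    simp only [List.mem_toFinset, List.mem_filter, List.mem_range] at hi hj
    exact h.inj i hi.1 j hj.1 e
  · intro a ha
    simp only [Finset.mem_filter, Finset.mem_univ, true_and, Subgroup.mem_centralizer_singleton_iff] at ha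
    obtain ⟨i, hi, rfl⟩ := h.mem_of_conj hk hk (a := a)
      (Or.inl (by rw [zpow_one, ha, mul_inv_cancel_right])) rfl
    refine ⟨i, ?_, rfl⟩
    simp only [List.mem_toFinset, List.mem_filter, List.mem_range, beq_iff_eq]
    refine ⟨hi, h.inj _ (h.lt _ hi _ (sx_lt k)) _ (h.lt _ (sx_lt k) _ hi) ?_⟩
    rw [h.mul _ hi _ (sx_lt k), h.mul _ (sx_lt k) _ hi, ha]

theorem Loc.card_pairs (h : Loc t ρ) (hone : ∀ x y : G, orderOf x = 2 → orderOf y = 2 → IsConj x y) {k : ℕ}
    (hk : k < 7) :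
    Nat.card {p : G × G // IsConj t p.1 ∧ IsConj t p.2 ∧ p.1 * p.2 = ρ (sx k)} = sPairs.getD k 0 := by
  classical
  have hc : ((List.range 1920).filter fun b => J3Order.mul b b == 0 && !(b == 0) &&
      J3Order.mul (J3Order.mul (sx k) b) (J3Order.mul (sx k) b) == 0 && !(J3Order.mul (sx k) b == 0)).length =
        sPairs.getD k 0 := by
    have := congrArg (fun L : List ℕ => L.getD k 0) inv_counts
    rw [List.getD_eq_getElem (hn := by simp [data_facts.2.1, hk]), List.getElem_map, List.getElem_map] at this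
    rw [show sx k = rp11 (sect[k]'(by rw [data_facts.2.1]; exact hk)) by
      rw [sx, List.getD_eq_getElem]]
    exact this
  have hinv : ∀ {a : G}, IsConj t a ↔ (a * a = 1 ∧ a ≠ 1) := fun {a} => by
    constructor
    · intro hc'
      obtain ⟨c, rfl⟩ := isConj_iff.1 hc'
      exact ⟨by rw [conj_mul, CfsgLib.Involution.Dihedral.mul_self h.ht, mul_one, mul_inv_cancel],
        fun e => CfsgLib.Involution.Dihedral.ne_one h.ht (conj_eq_one_iff.1 e)⟩
    · rintro ⟨h1, h2⟩
      exact hone t a h.ht (CfsgLib.Involution.Dihedral.orderOf_eq_two h1 h2)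
  have hz : ∀ {i}, i < 1920 → (ρ i = 1 ↔ i = 0) := fun {i} hi =>
    ⟨fun e => h.inj i hi 0 (by norm_num) (e.trans h.one.symm), fun e => e ▸ h.one⟩
  rw [← hc, ← List.toFinset_card_of_nodup (List.nodup_range.filter _), Nat.card_eq_fintype_card, Fintype.card_subtype]
  refine (Finset.card_bij (fun i _ => (ρ (sx k) * ρ i, ρ i)) ?_ ?_ ?_).symm
  · intro i hi
    simp only [List.mem_toFinset, List.mem_filter, List.mem_range, beq_iff_eq, Bool.and_eq_true, Bool.not_eq_true',
      beq_eq_false_iff_ne] at hi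
    obtain ⟨hi, ⟨⟨h1, h2⟩, h3⟩, h4⟩ := hi
    simp only [Finset.mem_filter, Finset.mem_univ, true_and, hinv]
    have hl := h.lt _ (sx_lt k) _ hi
    refine ⟨⟨?_, ?_⟩, ⟨?_, mt (hz hi).1 h2⟩, ?_⟩
    · rw [← h.mul _ (sx_lt k) _ hi, ← h.mul _ hl _ hl, h3, h.one]
    · rw [← h.mul _ (sx_lt k) _ hi]; exact mt (hz hl).1 h4
    · rw [← h.mul _ hi _ hi, h1, h.one]
    · rw [mul_assoc, ← h.mul _ hi _ hi, h1, h.one, mul_one]
  · intro i hi j hj e
    simp only [List.mem_toFinset, List.mem_filter, List.mem_range] at hi hj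
    exact h.inj i hi.1 j hj.1 (congrArg Prod.snd e)
  · rintro ⟨a, b⟩ hab
    simp only [Finset.mem_filter, Finset.mem_univ, true_and, hinv] at hab
    obtain ⟨⟨ha1, ha2⟩, ⟨hb1, hb2⟩, he⟩ := hab
    have hae : a = ρ (sx k) * b := by rw [← he, mul_assoc, hb1, mul_one]
    have hconj : b * ρ (sx k) * b⁻¹ = (ρ (sx k))⁻¹ := by
      rw [← he, mul_inv_rev, inv_eq_of_mul_eq_one_right hb1, inv_eq_of_mul_eq_one_right ha1]
      calc b * (a * b) * b = b * a * (b * b) := by group
        _ = b * a := by rw [hb1, mul_one]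
    obtain ⟨i, hi, rfl⟩ := h.mem_of_conj hk hk (Or.inr hconj) rfl
    have hl := h.lt _ (sx_lt k) _ hi
    refine ⟨i, ?_, Prod.ext hae.symm rfl⟩
    simp only [List.mem_toFinset, List.mem_filter, List.mem_range, beq_iff_eq, Bool.and_eq_true, Bool.not_eq_true',
      beq_eq_false_iff_ne]
    refine ⟨hi, ⟨⟨(hz (h.lt _ hi _ hi)).1 ?_, fun e => hb2 ((hz hi).2 e)⟩, (hz (h.lt _ hl _ hl)).1 ?_⟩, fun e => ha2 ?_⟩
    · rw [h.mul _ hi _ hi, hb1]
    · rw [h.mul _ hl _ hl, h.mul _ (sx_lt k) _ hi, ← hae, ha1]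
    · rw [hae, ← h.mul _ (sx_lt k) _ hi]; exact (hz hl).2 e

/-- The table of a simple group with one class of involutions. -/
theorem Loc.exists_table [IsSimpleGroup G] (h : Loc t ρ)
    (hone : ∀ x y : G, orderOf x = 2 → orderOf y = 2 → IsConj x y) :
    ∃ T : Tbl (IrrCharacter G), T.n = Nat.card G := by
  classical
  obtain ⟨htgt, hl1, hl2, hsc, hgram, htr, hTH, hT3⟩ := data_facts
  have hcomm : ¬ IsMulCommutative G := fun hc => by
    refine h.not_conj (k := 4) (l := 5) (by norm_num) (by norm_num) (by norm_num) ?_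
    have hp := (h.sect_spec (k := 4) (by norm_num)).1
    have hq := (h.sect_spec (k := 5) (by norm_num)).1
    have hf := List.all_eq_true.1 sq_centre
    exfalso
    have h1 : J3Order.mul 1 2 = J3Order.mul 2 1 := h.inj _ (h.lt _ (by norm_num) _ (by norm_num)) _
      (h.lt _ (by norm_num) _ (by norm_num)) (by
        rw [h.mul _ (by norm_num) _ (by norm_num), h.mul _ (by norm_num) _ (by norm_num), hc.is_comm.comm])
    revert h1
    decide +kernel
  let v : IrrCharacter G → ℕ → ℂ := fun χ k => (χ : G → ℂ) (ρ (sx k))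
  have hreal : ∀ χ k, k < 7 → conj (v χ k) = v χ k := fun χ k hk => by
    rw [Blocks.conj_irr]
    exact (CfsgLib.Char.IsClassFunction.apply_eq_of_isConj (CfsgLib.Char.IsIrrCharacter.isClassFunction χ.2)
      (h.sect_spec hk).2).symm
  have horth : ∀ k < 7, ∀ l < 7, ∑ χ : IrrCharacter G, v χ k * v χ l =
      if k = l then (sCent.getD l 0 : ℂ) else 0 := by
    intro k hk l hl
    have := CfsgLib.Char.sum_irr_mul_conj (ρ (sx k)) (ρ (sx l))
    rw [Finset.sum_congr rfl fun (χ : IrrCharacter G) _ => show (χ : G → ℂ) (ρ (sx k)) * conj ((χ : G → ℂ) (ρ (sx l)))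
      = v χ k * v χ l by rw [show conj ((χ : G → ℂ) (ρ (sx l))) = v χ l from hreal χ l hl]] at this
    rw [this]
    by_cases hkl : k = l
    · subst hkl
      rw [if_pos (IsConj.refl _), if_pos rfl, h.card_cent hk]
    · rw [if_neg (h.not_conj hk hl hkl), if_neg hkl]
  -- the integral forms
  have hform : ∀ χ : IrrCharacter G, ∀ j < 6, ∃ w : ℤ,
      ∑ k ∈ Finset.range 7, (sLen.getD k 0 : ℂ) * ((bMat.getD j []).getD k 0 : ℂ) * v χ k = 1920 * (w : ℂ) := by
    intro χ j hj
    obtain ⟨w, hw⟩ := h.theta_integral hone χ hj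
    refine ⟨w, ?_⟩
    rw [← hw, htgt j hj]
    simp only [Finset.sum_range_succ, Finset.sum_range_zero, List.getD_cons_zero, List.getD_cons_succ, sLen, v, sx,
      sect, val]
    push_cast
    ring
  choose wf hwf using hform
  let w : IrrCharacter G → ℕ → ℤ := fun χ j => if hj : j < 6 then wf χ j hj else 0
  have hw : ∀ χ, ∀ j < 6, ∑ k ∈ Finset.range 7, (sLen.getD k 0 : ℂ) * ((bMat.getD j []).getD k 0 : ℂ) * v χ k =
      1920 * (w χ j : ℂ) := fun χ j hj => by
    simp only [w, dif_pos hj]; exact hwf χ j hj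
  have hX : ∀ χ, v χ 6 = (valX (w χ) : ℂ) ∧ v χ 0 = (valA (w χ) : ℂ) ∧ v χ 2 = (valC (w χ) : ℂ) := by
    intro χ
    have e0 := hw χ 0 (by norm_num)
    have e1 := hw χ 1 (by norm_num)
    have e2 := hw χ 2 (by norm_num)
    have e3 := hw χ 3 (by norm_num)
    have e4 := hw χ 4 (by norm_num)
    have e5 := hw χ 5 (by norm_num)
    simp only [Finset.sum_range_succ, Finset.sum_range_zero, sLen, bMat, List.getD_cons_zero,
      List.getD_cons_succ] at e0 e1 e2 e3 e4 e5
    push_cast at e0 e1 e2 e3 e4 e5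
    simp only [valX, valA, valC]
    push_cast
    refine ⟨?_, ?_, ?_⟩
    · linear_combination (2 * e0 - 20 * e1 - 9 * e2 - 24 * e3 - 5 * e4 + 10 * e5) / 1920
    · linear_combination (-2 * e0 + 4 * e1 + 3 * e2 - e4 - 2 * e5) / 1920
    · linear_combination (e2 + e4) / 1920
  have hv4 : ∀ χ : IrrCharacter G, val ρ (χ : G → ℂ) 4 = v χ 6 ∧ val ρ (χ : G → ℂ) 5 = v χ 0 ∧
      val ρ (χ : G → ℂ) 7 = v χ 2 := fun χ => ⟨rfl, rfl, rfl⟩
  have ht6 : ρ (sx 6) = t := by rw [show sx 6 = 960 by decide +kernel, h.centre]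
  let d : IrrCharacter G → ℕ := fun χ => charDegree (χ : G → ℂ)
  have hdne : ∀ χ, ((d χ : ℕ) : ℂ) ≠ 0 := fun χ => Nat.cast_ne_zero.2 (Blocks.charDegree_pos χ).ne'
  have hG0 : ((Nat.card G : ℕ) : ℂ) ≠ 0 := Nat.cast_ne_zero.2 Nat.card_pos.ne'
  have hsc' : ∀ k < 7, (sLen.getD k 0 : ℂ) * (sCent.getD k 0 : ℂ) = 1920 := fun k hk => by
    exact_mod_cast hsc k hk
  have h1920 : Nat.card (Subgroup.centralizer ({t} : Set G)) = 1920 := by
    have := h.card_cent (k := 6) (by norm_num)
    rw [ht6] at this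
    exact this
  have hcls : (Nat.card {x : G // IsConj t x} : ℂ) * 1920 = (Nat.card G : ℂ) := by
    rw [← CfsgLib.Char.card_conjugates_mul t, h1920, Nat.cast_mul,
      Nat.card_congr (Equiv.subtypeEquivRight fun x => (isConj_comm : IsConj t x ↔ IsConj x t))]
    norm_num
  have hpairs : ∀ k < 7, ∑ χ : IrrCharacter G, v χ 6 * v χ 6 * v χ k / (d χ : ℂ) =
      (sPairs.getD k 0 : ℂ) * 1920 * 1920 / (Nat.card G : ℂ) := by
    intro k hk
    have e := Cfsg.Agent.S0840.result t t (ρ (sx k))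
    rw [h.card_pairs hone hk, finsum_eq_sum_of_fintype,
      show ∑ χ : IrrCharacter G, (χ : G → ℂ) t * (χ : G → ℂ) t * conj ((χ : G → ℂ) (ρ (sx k))) / (χ : G → ℂ) 1 =
        ∑ χ : IrrCharacter G, v χ 6 * v χ 6 * v χ k / (d χ : ℂ) from Finset.sum_congr rfl fun χ _ => by
          rw [show conj ((χ : G → ℂ) (ρ (sx k))) = v χ k from hreal χ k hk, Blocks.irr_one_eq,
            show v χ 6 = (χ : G → ℂ) t by simp only [v, ht6]],
      ← eq_div_of_mul_eq (by norm_num : (1920 : ℂ) ≠ 0) hcls |>.symm] at e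
    rw [e]
    field_simp
  have hdeg : ∀ k < 7, ∑ χ : IrrCharacter G, (d χ : ℂ) * v χ k = 0 := by
    intro k hk
    have := CfsgLib.Char.regular_eq_sum_irr (ρ (sx k))
    rw [if_neg] at this
    · rw [← this]
      exact Finset.sum_congr rfl fun χ _ => by rw [Blocks.irr_one_eq]
    · intro e
      have := (h.sect_spec hk).1
      rw [e, one_pow] at this
      exact CfsgLib.Involution.Dihedral.ne_one h.ht this.symm
  have htriv : ∀ j < 6, w (Blocks.trivChar G) j = trv.getD j 0 := by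
    intro j hj
    have e := hw (Blocks.trivChar G) j hj
    simp only [v, Blocks.trivChar_apply, mul_one] at e
    have e' := congrArg (fun z : ℤ => (z : ℂ)) (htr j hj)
    have : (1920 : ℂ) * (w (Blocks.trivChar G) j : ℂ) = (((1920 * trv.getD j 0 : ℤ)) : ℂ) := by
      rw [← e, ← htr j hj]
      simp only [Finset.sum_range_succ, Finset.sum_range_zero, List.range_succ, List.range_zero, List.nil_append,
        List.cons_append, List.map_cons, List.map_nil, List.sum_cons, List.sum_nil]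
      push_cast
      ring
    push_cast at this
    exact_mod_cast mul_left_cancel₀ (by norm_num : (1920 : ℂ) ≠ 0) this
  have hgram' : ∀ i < 6, ∀ j < 6, ∑ χ, w χ i * w χ j = (gram.getD i []).getD j 0 := by
    intro i hi j hj
    have key : (1920 : ℂ) * 1920 * ((∑ χ, w χ i * w χ j : ℤ) : ℂ) =
        1920 * 1920 * (((gram.getD i []).getD j 0 : ℤ) : ℂ) := by
      calc (1920 : ℂ) * 1920 * ((∑ χ, w χ i * w χ j : ℤ) : ℂ)
          = ∑ χ, (1920 * (w χ i : ℂ)) * (1920 * (w χ j : ℂ)) := by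
            push_cast; rw [Finset.mul_sum]; exact Finset.sum_congr rfl fun χ _ => by ring
        _ = ∑ χ, ∑ k ∈ Finset.range 7, ∑ l ∈ Finset.range 7, ((sLen.getD k 0 : ℂ) * ((bMat.getD i []).getD k 0 : ℂ) *
              ((sLen.getD l 0 : ℂ) * ((bMat.getD j []).getD l 0 : ℂ))) * (v χ k * v χ l) := by
            refine Finset.sum_congr rfl fun χ _ => ?_
            rw [← hw χ i hi, ← hw χ j hj, Finset.sum_mul]
            refine Finset.sum_congr rfl fun k _ => ?_
            rw [Finset.mul_sum]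
            exact Finset.sum_congr rfl fun l _ => by ring
        _ = ∑ k ∈ Finset.range 7, ∑ l ∈ Finset.range 7, ((sLen.getD k 0 : ℂ) * ((bMat.getD i []).getD k 0 : ℂ) *
              ((sLen.getD l 0 : ℂ) * ((bMat.getD j []).getD l 0 : ℂ))) * ∑ χ, v χ k * v χ l := by
            rw [Finset.sum_comm]
            refine Finset.sum_congr rfl fun k _ => ?_
            rw [Finset.sum_comm]
            exact Finset.sum_congr rfl fun l _ => (Finset.mul_sum _ _ _).symm
        _ = ∑ k ∈ Finset.range 7, 1920 * ((sLen.getD k 0 : ℂ) * ((bMat.getD i []).getD k 0 : ℂ) *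
              ((bMat.getD j []).getD k 0 : ℂ)) := by
            refine Finset.sum_congr rfl fun k hk => ?_
            rw [Finset.sum_eq_single k]
            · rw [horth k (Finset.mem_range.1 hk) k (Finset.mem_range.1 hk), if_pos rfl,
                ← hsc' k (Finset.mem_range.1 hk)]
              ring
            · intro l hl hne
              rw [horth k (Finset.mem_range.1 hk) l (Finset.mem_range.1 hl), if_neg (Ne.symm hne), mul_zero]
            · exact fun h' => absurd hk h'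
        _ = 1920 * ((((List.range 7).map fun k => (sLen.getD k 0 : ℤ) * (bMat.getD i []).getD k 0 *
              (bMat.getD j []).getD k 0).sum : ℤ) : ℂ) := by
            simp only [Finset.sum_range_succ, Finset.sum_range_zero, List.range_succ, List.range_zero, List.nil_append,
              List.cons_append, List.map_cons, List.map_nil, List.sum_cons, List.sum_nil]
            push_cast
            ring
        _ = _ := by rw [hgram i hi j hj]; push_cast; ring
    exact_mod_cast mul_left_cancel₀ (by norm_num : (1920 : ℂ) * 1920 ≠ 0) key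
  have hdegw : ∀ j < 6, ∑ χ, (d χ : ℤ) * w χ j = 0 := by
    intro j hj
    have key : (1920 : ℂ) * ((∑ χ, (d χ : ℤ) * w χ j : ℤ) : ℂ) = 0 := by
      push_cast
      rw [Finset.mul_sum, Finset.sum_congr rfl fun χ _ => show (1920 : ℂ) * ((d χ : ℂ) * (w χ j : ℂ)) =
        ∑ k ∈ Finset.range 7, (sLen.getD k 0 : ℂ) * ((bMat.getD j []).getD k 0 : ℂ) * ((d χ : ℂ) * v χ k) by
          rw [show (1920 : ℂ) * ((d χ : ℂ) * (w χ j : ℂ)) = (d χ : ℂ) * (1920 * (w χ j : ℂ)) by ring,
            ← hw χ j hj, Finset.mul_sum]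
          exact Finset.sum_congr rfl fun k _ => by ring, Finset.sum_comm]
      refine Finset.sum_eq_zero fun k hk => ?_
      rw [← Finset.mul_sum, hdeg k (Finset.mem_range.1 hk), mul_zero]
    exact_mod_cast (mul_eq_zero.1 key).resolve_left (by norm_num)
  have hsum : ∀ (c : List ℤ) (E : ℤ),
      ((List.range 7).map fun k => (sLen.getD k 0 : ℤ) * c.getD k 0 * (sPairs.getD k 0 : ℤ)).sum = E →
      ∀ u : IrrCharacter G → ℤ,
      (∀ χ, ∑ k ∈ Finset.range 7, (sLen.getD k 0 : ℂ) * (c.getD k 0 : ℂ) * v χ k = 1920 * (u χ : ℂ)) →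
      (∑ χ, (u χ : ℚ) * ((valX (w χ) * valX (w χ) : ℤ) : ℚ) / (d χ : ℚ)) * (Nat.card G : ℚ) = 1920 * E := by
    intro c E hE u hu
    have key : (1920 : ℂ) * ((∑ χ, (u χ : ℂ) * ((valX (w χ) * valX (w χ) : ℤ) : ℂ) / (d χ : ℂ)) * (Nat.card G : ℂ)) =
        1920 * (1920 * (E : ℂ)) := by
      rw [← mul_assoc, Finset.mul_sum, Finset.sum_congr rfl fun χ _ => show
        (1920 : ℂ) * ((u χ : ℂ) * ((valX (w χ) * valX (w χ) : ℤ) : ℂ) / (d χ : ℂ)) =
          ∑ k ∈ Finset.range 7, (sLen.getD k 0 : ℂ) * (c.getD k 0 : ℂ) * (v χ 6 * v χ 6 * v χ k / (d χ : ℂ)) by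
          rw [Int.cast_mul, ← (hX χ).1, show (1920 : ℂ) * ((u χ : ℂ) * (v χ 6 * v χ 6) / (d χ : ℂ)) =
            (1920 * (u χ : ℂ)) * (v χ 6 * v χ 6 / (d χ : ℂ)) by ring, ← hu χ, Finset.sum_mul]
          exact Finset.sum_congr rfl fun k _ => by ring,
        Finset.sum_comm, Finset.sum_mul, Finset.sum_congr rfl fun k hk => show
          (∑ χ, (sLen.getD k 0 : ℂ) * (c.getD k 0 : ℂ) * (v χ 6 * v χ 6 * v χ k / (d χ : ℂ))) * (Nat.card G : ℂ) =
            1920 * 1920 * ((sLen.getD k 0 : ℂ) * (c.getD k 0 : ℂ) * (sPairs.getD k 0 : ℂ)) by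
          rw [← Finset.mul_sum, hpairs k (Finset.mem_range.1 hk)]
          field_simp,
        ← hE]
      simp only [Finset.sum_range_succ, Finset.sum_range_zero, List.range_succ, List.range_zero, List.nil_append,
        List.cons_append, List.map_cons, List.map_nil, List.sum_cons, List.sum_nil]
      push_cast
      ring
    have := mul_left_cancel₀ (by norm_num : (1920 : ℂ) ≠ 0) key
    have h2 : ((((∑ χ, (u χ : ℚ) * ((valX (w χ) * valX (w χ) : ℤ) : ℚ) / (d χ : ℚ)) * (Nat.card G : ℚ) : ℚ)) : ℂ) =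
        ((1920 * (E : ℚ) : ℚ) : ℂ) := by
      push_cast at this ⊢
      exact this
    exact_mod_cast h2
  refine ⟨
    { w := w
      d := d
      i₀ := Blocks.trivChar G
      n := Nat.card G
      w0 := htriv
      d0 := by simp [d, charDegree]
      two := fun χ hne => by
        have hpos : 0 < d χ := Blocks.charDegree_pos χ
        by_contra h2
        exact hne (SmallGroups.BlockDegrees.eq_trivChar hcomm χ (by show d χ = 1; omega))
      dvd := fun χ => Blocks.charDegree_dvd χ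
      sq := fun χ => ?_
      cong := fun χ => ?_
      le := fun χ => ?_
      gram_eq := hgram'
      deg := hdegw
      sumTH := ?_
      sumT3 := ?_
      n1920 := h1920 ▸ Subgroup.card_subgroup_dvd_card _
      n256 := ?_
      npos := Nat.card_pos }, rfl⟩
  · have hsum' : ∑ ψ : IrrCharacter G, ((d ψ * d ψ : ℕ) : ℂ) = (Nat.card G : ℕ) := by
      rw [← CfsgLib.Char.sum_sq_apply_one]
      exact Finset.sum_congr rfl fun ψ _ => by rw [Blocks.irr_one_eq]; push_cast; ring
    rw [← Nat.cast_sum, Nat.cast_inj] at hsum'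
    rw [← hsum']
    exact Finset.single_le_sum (f := fun ψ : IrrCharacter G => d ψ * d ψ) (fun _ _ => Nat.zero_le _)
      (Finset.mem_univ χ)
  · obtain ⟨n, hn⟩ := h.sylow_integral hone χ
    rw [(hv4 χ).1, (hv4 χ).2.1, (hv4 χ).2.2, (hX χ).1, (hX χ).2.1, (hX χ).2.2] at hn
    refine ⟨n, ?_⟩
    exact_mod_cast hn
  · have hle : ‖(χ : G → ℂ) t‖ ≤ (d χ : ℝ) := by
      obtain ⟨n, rep, -, he⟩ := χ.2
      have hd : (d χ : ℂ) = (n : ℂ) := by
        rw [← Blocks.irr_one_eq, ← he]; simp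
      rw [← he, show (d χ : ℝ) = (n : ℝ) by exact_mod_cast hd]
      simpa using CfsgLib.Char.norm_char_le rep t
    rw [show (χ : G → ℂ) t = (valX (w χ) : ℂ) by rw [← (hX χ).1]; simp only [v, ht6], Complex.norm_intCast] at hle
    have h2 : |valX (w χ)| ≤ (d χ : ℤ) := by exact_mod_cast hle
    nlinarith [abs_mul_abs_self (valX (w χ)), abs_nonneg (valX (w χ))]
  · have := hsum [4, 4, 2, 0, 2, 2, -48] 15200 (by decide +kernel) (fun χ => w χ 1 + w χ 2 + w χ 3) (fun χ => by
      push_cast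
      rw [mul_add, mul_add, ← hw χ 1 (by norm_num), ← hw χ 2 (by norm_num), ← hw χ 3 (by norm_num)]
      simp only [Finset.sum_range_succ, Finset.sum_range_zero, sLen, bMat, List.getD_cons_zero, List.getD_cons_succ]
      push_cast
      ring)
    rw [this]; norm_num
  · have := hsum [8, 2, 0, 4, -2, -2, -32] 320 (by decide +kernel) (fun χ => w χ 1) (fun χ => hw χ 1 (by norm_num))
    rw [this]; norm_num
  · intro h256
    haveI : Fact (Nat.Prime 2) := ⟨Nat.prime_two⟩
    haveI : Nonempty (Sylow 2 G) := inferInstance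
    obtain ⟨T⟩ := (inferInstance : Nonempty (Sylow 2 G))
    haveI : Nontrivial (T : Subgroup G) := by
      have h2 : 2 ∣ Nat.card (T : Subgroup G) := T.dvd_card_of_dvd_card ((by norm_num : 2 ∣ 256).trans h256)
      exact Finite.one_lt_card_iff_nontrivial.1 (Nat.lt_of_lt_of_le one_lt_two (Nat.le_of_dvd Nat.card_pos h2))
    haveI := T.2.center_nontrivial
    have h2c : 2 ∣ Nat.card (Subgroup.center (T : Subgroup G)) := by
      obtain ⟨n, hn⟩ := (T.2.to_subgroup (Subgroup.center (T : Subgroup G))).exists_card_eq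
      rcases n with _ | n
      · have := Finite.one_lt_card_iff_nontrivial.2 (inferInstance : Nontrivial (Subgroup.center (T : Subgroup G)))
        rw [hn, pow_zero] at this
        omega
      · exact hn ▸ dvd_pow_self 2 n.succ_ne_zero
    obtain ⟨z, hz⟩ := exists_prime_orderOf_dvd_card' (G := Subgroup.center (T : Subgroup G)) 2 h2c
    obtain ⟨g, hg⟩ := isConj_iff.1 (hone (((z : (T : Subgroup G)) : G)) t
      (by rw [Subgroup.orderOf_coe, Subgroup.orderOf_coe, hz]) h.ht)
    have hle : (T : Subgroup G).map (MulAut.conj g).toMonoidHom ≤ Subgroup.centralizer ({t} : Set G) := by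
      rintro _ ⟨s, hs, rfl⟩
      rw [Subgroup.mem_centralizer_singleton_iff, ← hg]
      have hc : s * ((z : (T : Subgroup G)) : G) = ((z : (T : Subgroup G)) : G) * s :=
        congrArg Subtype.val (Subgroup.mem_center_iff.1 z.2 ⟨s, hs⟩)
      simp only [MulEquiv.coe_toMonoidHom, MulAut.conj_apply, conj_mul, hc]
    have h8 : 256 ∣ Nat.card (T : Subgroup G) := by
      rw [T.card_eq_multiplicity]
      exact dvd_trans (by norm_num) (pow_dvd_pow 2
        ((Nat.prime_two.pow_dvd_iff_le_factorization Nat.card_pos.ne').1 (show 2 ^ 8 ∣ Nat.card G from h256)))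
    have := h8.trans ((Subgroup.card_map_of_injective (MulAut.conj g).injective).symm.dvd.trans
      (Subgroup.card_dvd_of_le hle))
    rw [h1920] at this
    norm_num at this

end CfsgLib.SmallGroups.J3Order
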