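import Cfsg.Agent.Lib.SmallGroups.J3Order.Table
import Cfsg.Agent.Lib.SmallGroups.J3Order.SearchTriples
import Cfsg.Agent.Lib.SmallGroups.J3Order.SearchSpec

/-!
# The three constituents of a combination of the six generalised characters
-/

set_option autoImplicit false
set_option maxRecDepth 100000
set_option linter.style.haveILetI false
set_option linter.unusedSectionVars false

namespace CfsgLib.SmallGroups.J3Order

open Search

/-- Six values as a vector. -/
def mk6 (f : ℕ → ℤ) : Vec := (List.range 6).map f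

theorem mk6_congr {f g : ℕ → ℤ} (h : ∀ j < 6, f j = g j) : mk6 f = mk6 g :=
  List.map_congr_left fun j hj => h j (List.mem_range.1 hj)

theorem dot_mk6 (f g : ℕ → ℤ) : dot (mk6 f) (mk6 g) = ∑ j ∈ Finset.range 6, f j * g j := by
  simp only [mk6, List.range_succ, List.range_zero, List.nil_append, List.cons_append, List.map_cons, List.map_nil,
    dot, Finset.sum_range_succ, Finset.sum_range_zero]
  ring

theorem vadd_mk6 (f g : ℕ → ℤ) : vadd (mk6 f) (mk6 g) = mk6 fun j => f j + g j := by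
  simp [mk6, List.range_succ, vadd]

theorem vsub_mk6 (f g : ℕ → ℤ) : vsub (mk6 f) (mk6 g) = mk6 fun j => f j - g j := by
  simp [mk6, List.range_succ, vsub]

theorem smul_mk6 (e : ℤ) (f : ℕ → ℤ) : Search.smul e (mk6 f) = mk6 fun j => e * f j := by
  simp [mk6, Search.smul, List.map_map, Function.comp_def]

/-- An entry of the scaled inverse of the Gram matrix. -/
def hEnt (i j : ℕ) : ℤ := (hMat.getD i []).getD j 0

theorem mat_facts : hMat = (List.range 6).map (fun i => mk6 (hEnt i)) ∧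
    (∀ i < 6, ∀ k < 6, ∑ j ∈ Finset.range 6, (gram.getD i []).getD j 0 * hEnt j k = if i = k then 128 else 0) ∧
    trVec = mk6 (fun j => trv.getD j 0) ∧
    (∀ j < 6, ((gram.getD j []).getD j 0 - trv.getD j 0 * trv.getD j 0) <
      ((bound.getD j 0 : ℤ) + 1) * ((bound.getD j 0 : ℤ) + 1)) := by decide +kernel

theorem hmul_mk6 (f : ℕ → ℤ) : hmul (mk6 f) = mk6 fun i => ∑ j ∈ Finset.range 6, hEnt i j * f j := by
  rw [hmul, mat_facts.1, List.map_map]
  exact List.map_congr_left fun i _ => dot_mk6 _ _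

theorem mem_seg {b : ℕ} {z : ℤ} (h : z.natAbs ≤ b) : z ∈ seg b := by
  simp only [seg, List.mem_map]
  exact ⟨((z + b).toNat : ℤ), List.mem_flatMap.2 ⟨(z + b).toNat, List.mem_range.2 (by omega),
    List.mem_singleton_self _⟩, by omega⟩

theorem mem_box {f : ℕ → ℤ} (h : ∀ j < 6, (f j).natAbs ≤ bound.getD j 0) : mk6 f ∈ box := by
  have h0 := h 0 (by norm_num)
  have h1 := h 1 (by norm_num)
  have h2 := h 2 (by norm_num)
  have h3 := h 3 (by norm_num)
  have h4 := h 4 (by norm_num)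
  have h5 := h 5 (by norm_num)
  simp only [bound, List.getD_cons_zero, List.getD_cons_succ] at h0 h1 h2 h3 h4 h5
  refine List.mem_flatMap.2 ⟨f 0, mem_seg h0, List.mem_flatMap.2 ⟨f 1, mem_seg h1, List.mem_flatMap.2 ⟨f 2,
    mem_seg h2, List.mem_flatMap.2 ⟨f 3, mem_seg h3, List.mem_flatMap.2 ⟨f 4, mem_seg h4, List.mem_map.2 ⟨f 5,
    mem_seg h5, ?_⟩⟩⟩⟩⟩⟩
  simp [mk6, List.range_succ]

theorem triplesFrom_spec (tgt : Vec) (K : List Key) (x : Vec) : ∀ (l : List Vec), triplesFrom tgt K x l = true →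
    ∀ (b c : ℕ) (y z : Vec), b ≤ c → l[b]? = some y → l[c]? = some z → vsub (vsub tgt x) y = z →
      fit3 x y z = true → inKeys K (keyOf x) (keyOf y) (keyOf z) = true := by
  intro l
  induction l with
  | nil => intro _ b c y z _ hb; simp at hb
  | cons u m ih =>
    intro hs b c y z hbc hb hc he hf
    simp only [triplesFrom, Bool.and_eq_true] at hs
    rcases b with _ | b
    · simp only [List.getElem?_cons_zero, Option.some.injEq] at hb
      subst hb
      have hmem : z ∈ u :: m := List.mem_of_getElem? hc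
      have h1 := hs.1
      rw [he] at h1
      simp only [Bool.or_eq_true, Bool.not_eq_true', List.contains_iff_mem, hf] at h1
      simpa [hmem] using h1
    · rcases c with _ | c
      · omega
      exact ih hs.2 b c y z (by omega) (by simpa using hb) (by simpa using hc) he hf

theorem triplesOK_spec (tgt : Vec) (K : List Key) : ∀ (l : List Vec), triplesOK tgt K l = true →
    ∀ (a b c : ℕ) (x y z : Vec), a ≤ b → b ≤ c → l[a]? = some x → l[b]? = some y → l[c]? = some z →
      vsub (vsub tgt x) y = z → fit3 x y z = true → inKeys K (keyOf x) (keyOf y) (keyOf z) = true := by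
  intro l
  induction l with
  | nil => intro _ a b c x y z _ _ ha; simp at ha
  | cons u m ih =>
    intro hs a b c x y z hab hbc ha hb hc he hf
    simp only [triplesOK, Bool.and_eq_true] at hs
    rcases a with _ | a
    · simp only [List.getElem?_cons_zero, Option.some.injEq] at ha
      subst ha
      exact triplesFrom_spec tgt K _ _ hs.1 b c y z hbc hb hc he hf
    · rcases b with _ | b
      · omega
      rcases c with _ | c
      · omega
      exact ih hs.2 a b c x y z (by omega) (by omega) (by simpa using ha) (by simpa using hb) (by simpa using hc)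
        he hf

variable {ι : Type*} [Fintype ι] (T : Tbl ι)

/-- The inner product with a combination of the six generalised characters. -/
def Tbl.co (C : ℕ → ℤ) (χ : ι) : ℤ := ∑ j ∈ Finset.range 6, C j * T.w χ j

/-- The signed vector of a constituent. -/
def Tbl.sv (C : ℕ → ℤ) (χ : ι) : Vec := mk6 fun j => T.co C χ * T.w χ j

/-- A constituent. -/
def Tbl.Memb (C : ℕ → ℤ) (χ : ι) : Prop := χ ≠ T.i₀ ∧ T.co C χ * T.co C χ = 1

variable {T}

theorem Tbl.co_i₀ (C : ℕ → ℤ) : T.co C T.i₀ = ∑ j ∈ Finset.range 6, C j * trv.getD j 0 :=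
  Finset.sum_congr rfl fun j hj => by rw [T.w0 j (Finset.mem_range.1 hj)]

theorem Tbl.sum_co_w (C : ℕ → ℤ) {j : ℕ} (hj : j < 6) :
    ∑ χ, T.co C χ * T.w χ j = ∑ i ∈ Finset.range 6, C i * (gram.getD i []).getD j 0 := by
  simp only [Tbl.co, Finset.sum_mul]
  rw [Finset.sum_comm]
  refine Finset.sum_congr rfl fun i hi => ?_
  rw [← T.gram_eq i (Finset.mem_range.1 hi) j hj, Finset.mul_sum]
  exact Finset.sum_congr rfl fun χ _ => mul_assoc _ _ _

theorem Tbl.sum_sq (C : ℕ → ℤ) : ∑ χ, T.co C χ * T.co C χ =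
    ∑ j ∈ Finset.range 6, C j * ∑ i ∈ Finset.range 6, C i * (gram.getD i []).getD j 0 := by
  calc ∑ χ, T.co C χ * T.co C χ = ∑ χ, ∑ j ∈ Finset.range 6, C j * (T.co C χ * T.w χ j) := by
        refine Finset.sum_congr rfl fun χ _ => ?_
        conv_lhs => arg 2; rw [Tbl.co]
        rw [Finset.mul_sum]
        exact Finset.sum_congr rfl fun j _ => by ring
    _ = _ := by
        rw [Finset.sum_comm]
        exact Finset.sum_congr rfl fun j hj => by rw [← Finset.mul_sum, T.sum_co_w C (Finset.mem_range.1 hj)]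

theorem Tbl.proj (f : ℕ → ℤ) (s : Finset ι) :
    ∑ χ ∈ s, dot (hmul (mk6 f)) (mk6 (T.w χ)) * dot (hmul (mk6 f)) (mk6 (T.w χ)) ≤
      128 * dot (hmul (mk6 f)) (mk6 f) := by
  set h : ℕ → ℤ := fun i => ∑ j ∈ Finset.range 6, hEnt i j * f j with hh
  have hG : ∀ i < 6, ∑ k ∈ Finset.range 6, h k * (gram.getD i []).getD k 0 = 128 * f i := by
    intro i hi
    calc ∑ k ∈ Finset.range 6, h k * (gram.getD i []).getD k 0
        = ∑ j ∈ Finset.range 6, (∑ k ∈ Finset.range 6, (gram.getD i []).getD k 0 * hEnt k j) * f j := by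
          simp only [hh, Finset.sum_mul]
          rw [Finset.sum_comm]
          exact Finset.sum_congr rfl fun j _ => Finset.sum_congr rfl fun k _ => by ring
      _ = _ := by
          rw [Finset.sum_eq_single i]
          · rw [mat_facts.2.1 i hi i hi, if_pos rfl]
          · intro j hj hne
            rw [mat_facts.2.1 i hi j (Finset.mem_range.1 hj), if_neg (Ne.symm hne), zero_mul]
          · exact fun h' => absurd (Finset.mem_range.2 hi) h'
  have hu : ∀ χ, dot (hmul (mk6 f)) (mk6 (T.w χ)) = T.co h χ := fun χ => by rw [hmul_mk6, dot_mk6]; rfl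
  simp only [hu]
  refine (Finset.sum_le_sum_of_subset_of_nonneg (Finset.subset_univ s) fun χ _ _ => mul_self_nonneg _).trans
    (le_of_eq ?_)
  rw [T.sum_sq, hmul_mk6, dot_mk6, Finset.mul_sum]
  refine Finset.sum_congr rfl fun j hj => ?_
  have hj' := Finset.mem_range.1 hj
  have hsymm : ∀ i ∈ Finset.range 6, (gram.getD i []).getD j 0 = (gram.getD j []).getD i 0 := fun i hi => by
    rw [← T.gram_eq i (Finset.mem_range.1 hi) j hj', ← T.gram_eq j hj' i (Finset.mem_range.1 hi)]
    exact Finset.sum_congr rfl fun χ _ => mul_comm _ _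
  rw [Finset.sum_congr rfl fun i hi => show h i * (gram.getD i []).getD j 0 = h i * (gram.getD j []).getD i 0 by
    rw [hsymm i hi], hG j hj']
  ring

theorem Tbl.Memb.dot_sv {C : ℕ → ℤ} {χ : ι} (h : T.Memb C χ) (l : Vec) (hl : ∃ g, l = mk6 g) :
    dot l (T.sv C χ) * dot l (T.sv C χ) = dot l (mk6 (T.w χ)) * dot l (mk6 (T.w χ)) := by
  obtain ⟨g, rfl⟩ := hl
  have e : dot (mk6 g) (T.sv C χ) = T.co C χ * dot (mk6 g) (mk6 (T.w χ)) := by
    rw [Tbl.sv, dot_mk6, dot_mk6, Finset.mul_sum]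
    exact Finset.sum_congr rfl fun j _ => by ring
  rw [e]
  linear_combination (dot (mk6 g) (mk6 (T.w χ)) * dot (mk6 g) (mk6 (T.w χ))) * h.2

theorem Tbl.trVec_eq : trVec = mk6 (T.w T.i₀) :=
  mat_facts.2.2.1.trans (mk6_congr fun j hj => (T.w0 j hj).symm)

theorem Tbl.Memb.mem_cands {C : ℕ → ℤ} {χ : ι} (h : T.Memb C χ) : T.sv C χ ∈ cands (mk6 C) := by
  classical
  refine List.mem_filter.2 ⟨mem_box fun j hj => ?_, ?_⟩
  · have hle : T.w χ j * T.w χ j ≤ (gram.getD j []).getD j 0 - trv.getD j 0 * trv.getD j 0 := by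
      have h2 := Finset.sum_le_sum_of_subset_of_nonneg (Finset.subset_univ {χ, T.i₀})
        (f := fun ψ => T.w ψ j * T.w ψ j) fun ψ _ _ => mul_self_nonneg _
      rw [Finset.sum_pair h.1, T.gram_eq j hj j hj, T.w0 j hj] at h2
      linarith
    have hlt := lt_of_le_of_lt hle (mat_facts.2.2.2 j hj)
    have hsq : T.co C χ * T.w χ j * (T.co C χ * T.w χ j) = T.w χ j * T.w χ j := by
      linear_combination (T.w χ j * T.w χ j) * h.2
    rw [← hsq, ← Int.natAbs_mul_self' (T.co C χ * T.w χ j)] at hlt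
    by_contra hb
    have : ((bound.getD j 0 : ℤ) + 1) ≤ ((T.co C χ * T.w χ j).natAbs : ℤ) := by omega
    exact absurd hlt (not_lt.2 (mul_le_mul this this (by omega) (by omega)))
  · simp only [Bool.and_eq_true, beq_iff_eq, fit1, decide_eq_true_eq]
    refine ⟨?_, ?_⟩
    · rw [Tbl.sv, dot_mk6, ← h.2]
      conv_rhs => arg 1; rw [Tbl.co]
      rw [Finset.sum_mul]
      exact Finset.sum_congr rfl fun j _ => by ring
    · have hp := T.proj (fun j => T.co C χ * T.w χ j) {χ, T.i₀}
      rw [Finset.sum_pair h.1, ← T.trVec_eq] at hp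
      have e := h.dot_sv (hmul (T.sv C χ)) ⟨_, hmul_mk6 _⟩
      rw [e]
      exact hp

theorem Tbl.fit3_sv {C : ℕ → ℤ} {a b c : ι} (ha : T.Memb C a) (hb : T.Memb C b) (hc : T.Memb C c) (hab : a ≠ b)
    (hac : a ≠ c) (hbc : b ≠ c) : fit3 (T.sv C a) (T.sv C b) (T.sv C c) = true := by
  classical
  simp only [fit3, List.all_eq_true, decide_eq_true_eq]
  intro e _
  have hv : vadd (Search.smul e.1 (T.sv C a)) (vadd (Search.smul e.2.1 (T.sv C b)) (Search.smul e.2.2 (T.sv C c))) =
      mk6 fun j => e.1 * (T.co C a * T.w a j) + (e.2.1 * (T.co C b * T.w b j) + e.2.2 * (T.co C c * T.w c j)) := by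
    simp only [Tbl.sv, smul_mk6, vadd_mk6]
  rw [hv]
  have hp := T.proj (fun j => e.1 * (T.co C a * T.w a j) +
    (e.2.1 * (T.co C b * T.w b j) + e.2.2 * (T.co C c * T.w c j))) {a, b, c, T.i₀}
  rw [Finset.sum_insert (by simp [hab, hac, ha.1]), Finset.sum_insert (by simp [hbc, hb.1]),
    Finset.sum_pair hc.1, ← T.trVec_eq] at hp
  rw [ha.dot_sv _ ⟨_, hmul_mk6 _⟩, hb.dot_sv _ ⟨_, hmul_mk6 _⟩, hc.dot_sv _ ⟨_, hmul_mk6 _⟩]
  linarith

theorem Tbl.keyOf_sv (C : ℕ → ℤ) (χ : ι) : keyOf (T.sv C χ) =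
    (T.co C χ * valX (T.w χ) * (T.co C χ * valX (T.w χ)),
      (-(T.co C χ * (35 * valX (T.w χ) + 44 * valA (T.w χ) + 48 * valC (T.w χ)))) % 128) := by
  simp only [keyOf, vX, Tbl.sv, mk6, List.range_succ, List.range_zero, List.nil_append, List.cons_append,
    List.map_cons, List.map_nil, dot, valX, valA, valC]
  refine Prod.ext ?_ ?_ <;> ring_nf

theorem Tbl.Memb.sig {C : ℕ → ℤ} {χ : ι} (h : T.Memb C χ) :
    Sig (keyOf (T.sv C χ)) (T.co C χ * T.d χ) T.n := by
  have habs : (T.co C χ * T.d χ).natAbs = T.d χ := by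
    have h1 : (T.co C χ).natAbs * (T.co C χ).natAbs = 1 := by rw [← Int.natAbs_mul, h.2]; rfl
    rw [Int.natAbs_mul, Int.natAbs_natCast, Nat.eq_one_of_mul_eq_one_right h1, one_mul]
  rw [T.keyOf_sv]
  refine ⟨by rw [habs]; exact T.two χ h.1, ?_, ?_, ?_, ?_⟩
  · linear_combination T.le χ + (valX (T.w χ) * valX (T.w χ) - (T.d χ : ℤ) * T.d χ) * h.2
  · obtain ⟨k, hk⟩ := T.cong χ
    have hm := Int.emod_add_mul_ediv (-(T.co C χ * (35 * valX (T.w χ) + 44 * valA (T.w χ) + 48 * valC (T.w χ)))) 128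
    refine ⟨T.co C χ * k + (-(T.co C χ * (35 * valX (T.w χ) + 44 * valA (T.w χ) + 48 * valC (T.w χ)))) / 128, ?_⟩
    linear_combination T.co C χ * hk - hm
  · rw [← Int.natAbs_dvd_natAbs, habs, Int.natAbs_natCast]; exact T.dvd χ
  · rw [← Int.natAbs_mul_self' (T.co C χ * T.d χ), habs]; exact_mod_cast T.sq χ

/-- The keys of the three constituents are listed. -/
theorem Tbl.inKeys_sv {C : ℕ → ℤ} {tgt : Vec} {K : List Key} {L : List Vec} (hL : cands (mk6 C) = L)
    (hOK : triplesOK tgt K L = true) {a b c : ι} (ha : T.Memb C a) (hb : T.Memb C b) (hc : T.Memb C c)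
    (hab : a ≠ b) (hac : a ≠ c) (hbc : b ≠ c)
    (hsum : ∀ j < 6, T.co C a * T.w a j + T.co C b * T.w b j + T.co C c * T.w c j = tgt.getD j 0)
    (htgt : tgt = mk6 fun j => tgt.getD j 0) :
    ∃ k ∈ K, ∃ x y z : ι, ({x, y, z} : Set ι) = {a, b, c} ∧
      T.co C x * T.d x + T.co C y * T.d y + T.co C z * T.d z =
        T.co C a * T.d a + T.co C b * T.d b + T.co C c * T.d c ∧
      (∀ F : ι → ℚ, F x + F y + F z = F a + F b + F c) ∧
      k = (keyOf (T.sv C x), keyOf (T.sv C y), keyOf (T.sv C z)) := by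
  have pos : ∀ {χ}, T.Memb C χ → ∃ i : ℕ, L[i]? = some (T.sv C χ) := fun h => by
    have hm := h.mem_cands
    rw [hL] at hm
    exact List.mem_iff_getElem?.1 hm
  obtain ⟨i, hi⟩ := pos ha
  obtain ⟨j, hj⟩ := pos hb
  obtain ⟨l, hl⟩ := pos hc
  have main : ∀ {x y z : ι} {i j l : ℕ}, T.Memb C x → T.Memb C y → T.Memb C z → x ≠ y → x ≠ z → y ≠ z →
      (∀ m < 6, T.co C x * T.w x m + T.co C y * T.w y m + T.co C z * T.w z m = tgt.getD m 0) →
      L[i]? = some (T.sv C x) → L[j]? = some (T.sv C y) → L[l]? = some (T.sv C z) → i ≤ j → j ≤ l →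
      inKeys K (keyOf (T.sv C x)) (keyOf (T.sv C y)) (keyOf (T.sv C z)) = true := by
    intro x y z i j l hx hy hz hxy hxz hyz hs hi hj hl hij hjl
    refine triplesOK_spec tgt K L hOK i j l _ _ _ hij hjl hi hj hl ?_ (T.fit3_sv hx hy hz hxy hxz hyz)
    rw [htgt]
    simp only [Tbl.sv, vsub_mk6]
    exact mk6_congr fun m hm => by linarith [hs m hm]
  have hin : inKeys K (keyOf (T.sv C a)) (keyOf (T.sv C b)) (keyOf (T.sv C c)) = true := by
    have sym : ∀ {p q r : ℤ × ℤ}, inKeys K p q r = true → inKeys K q p r = true ∧ inKeys K p r q = true := by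
      intro p q r h
      simp only [inKeys, List.any_eq_true, Bool.or_eq_true, beq_iff_eq] at h ⊢
      obtain ⟨k, hk, h⟩ := h
      refine ⟨⟨k, hk, ?_⟩, ⟨k, hk, ?_⟩⟩ <;> tauto
    rcases le_total i j with h1 | h1 <;> rcases le_total j l with h2 | h2 <;> rcases le_total i l with h3 | h3
    all_goals first
      | exact main ha hb hc hab hac hbc hsum hi hj hl ‹_› ‹_›
      | exact (sym (main ha hc hb hac hab hbc.symm (fun m hm => by linarith [hsum m hm]) hi hl hj ‹_› ‹_›)).2
      | exact (sym (main hb ha hc hab.symm hbc hac (fun m hm => by linarith [hsum m hm]) hj hi hl ‹_› ‹_›)).1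
      | exact (sym (sym (main hb hc ha hbc hab.symm hac.symm (fun m hm => by linarith [hsum m hm]) hj hl hi ‹_›
          ‹_›)).2).1
      | exact (sym (sym (main hc ha hb hac.symm hbc.symm hab (fun m hm => by linarith [hsum m hm]) hl hi hj ‹_›
          ‹_›)).1).2
      | exact (sym (sym (sym (main hc hb ha hbc.symm hac.symm hab.symm (fun m hm => by linarith [hsum m hm]) hl hj
          hi ‹_› ‹_›)).1).2).1
  simp only [inKeys, List.any_eq_true, Bool.or_eq_true, beq_iff_eq] at hin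
  obtain ⟨k, hk, h⟩ := hin
  rcases h with ((((e | e) | e) | e) | e) | e
  · exact ⟨k, hk, a, b, c, rfl, rfl, fun F => rfl, e⟩
  · exact ⟨k, hk, a, c, b, by ext; simp only [Set.mem_insert_iff, Set.mem_singleton_iff]; tauto, by ring,
      fun F => by ring, e⟩
  · exact ⟨k, hk, b, a, c, by ext; simp only [Set.mem_insert_iff, Set.mem_singleton_iff]; tauto, by ring,
      fun F => by ring, e⟩
  · exact ⟨k, hk, b, c, a, by ext; simp only [Set.mem_insert_iff, Set.mem_singleton_iff]; tauto, by ring,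
      fun F => by ring, e⟩
  · exact ⟨k, hk, c, a, b, by ext; simp only [Set.mem_insert_iff, Set.mem_singleton_iff]; tauto, by ring,
      fun F => by ring, e⟩
  · exact ⟨k, hk, c, b, a, by ext; simp only [Set.mem_insert_iff, Set.mem_singleton_iff]; tauto, by ring,
      fun F => by ring, e⟩

/-- The three constituents of a combination of norm three away from the trivial character. -/
theorem Tbl.triple {C : ℕ → ℤ} {tgt : Vec} {K : List Key} {L : List Vec} (hL : cands (mk6 C) = L)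
    (hOK : triplesOK tgt K L = true) (htgt : tgt = mk6 fun j => tgt.getD j 0) (c₀ : ℤ)
    (hc₀ : ∑ j ∈ Finset.range 6, C j * trv.getD j 0 = c₀)
    (hrow : ∀ j < 6, (∑ i ∈ Finset.range 6, C i * (gram.getD i []).getD j 0) - c₀ * trv.getD j 0 = tgt.getD j 0)
    (hnorm : (∑ j ∈ Finset.range 6, C j * ∑ i ∈ Finset.range 6, C i * (gram.getD i []).getD j 0) - c₀ * c₀ = 3) :
    ∃ k ∈ K, ∃ x y z : ℤ, Sig k.1 x T.n ∧ Sig k.2.1 y T.n ∧ Sig k.2.2 z T.n ∧ x + y + z = -c₀ ∧
      ∑ χ, (T.co C χ : ℚ) * ((valX (T.w χ) * valX (T.w χ) : ℤ) : ℚ) / (T.d χ : ℚ) =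
        (c₀ : ℚ) + (k.1.1 : ℚ) / x + (k.2.1.1 : ℚ) / y + (k.2.2.1 : ℚ) / z := by
  classical
  have h0 : T.co C T.i₀ = c₀ := (T.co_i₀ C).trans hc₀
  set S := (Finset.univ.erase T.i₀).filter fun χ => T.co C χ ≠ 0 with hS
  have hthree : ∑ χ ∈ S, T.co C χ * T.co C χ = 3 := by
    rw [hS, Finset.sum_subset (Finset.filter_subset _ _) (fun χ hm hn => by
      rw [show T.co C χ = 0 by by_contra e; exact hn (Finset.mem_filter.2 ⟨hm, e⟩), mul_zero]), ← hnorm, ← T.sum_sq C, ← h0,
      ← Finset.sum_erase_add _ _ (Finset.mem_univ T.i₀)]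
    ring
  have hone : ∀ χ ∈ S, T.co C χ * T.co C χ = 1 := by
    intro χ hχ
    have hle : T.co C χ * T.co C χ ≤ 3 :=
      hthree ▸ Finset.single_le_sum (f := fun ψ => T.co C ψ * T.co C ψ) (fun ψ _ => mul_self_nonneg _) hχ
    have hne := (Finset.mem_filter.1 hχ).2
    have h2 : T.co C χ ≤ 1 := by
      by_contra hb
      nlinarith [mul_le_mul (show (2 : ℤ) ≤ T.co C χ by omega) (show (2 : ℤ) ≤ T.co C χ by omega) (by omega) (by omega)]
    have h3 : -1 ≤ T.co C χ := by
      by_contra hb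
      nlinarith [mul_le_mul (show (2 : ℤ) ≤ -T.co C χ by omega) (show (2 : ℤ) ≤ -T.co C χ by omega) (by omega)
        (by omega)]
    rcases (show T.co C χ = 1 ∨ T.co C χ = -1 by omega) with e | e <;> rw [e] <;> rfl
  have hcard : S.card = 3 := by
    rw [Finset.sum_congr rfl hone, Finset.sum_const, nsmul_eq_mul, mul_one] at hthree
    exact_mod_cast hthree
  obtain ⟨a, b, c, hab, hac, hbc, hSe⟩ := Finset.card_eq_three.1 hcard
  have hmem : ∀ χ ∈ S, T.Memb C χ := fun χ hχ =>
    ⟨Finset.ne_of_mem_erase (Finset.mem_filter.1 hχ).1, hone χ hχ⟩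
  have ha := hmem a (by rw [hSe]; simp)
  have hb := hmem b (by rw [hSe]; simp)
  have hc := hmem c (by rw [hSe]; simp)
  have hsplit : ∀ {M : Type} [CommRing M] (F : ι → M),
      ∑ χ, (T.co C χ : M) * F χ =
        (c₀ : M) * F T.i₀ + ((T.co C a : M) * F a + (T.co C b : M) * F b + (T.co C c : M) * F c) := by
    intro M _ F
    rw [← Finset.sum_erase_add _ _ (Finset.mem_univ T.i₀), h0, add_comm,
      ← Finset.sum_subset (show S ⊆ Finset.univ.erase T.i₀ from Finset.filter_subset _ _) (fun χ hm hn => by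
        rw [show T.co C χ = 0 by by_contra e; exact hn (Finset.mem_filter.2 ⟨hm, e⟩), Int.cast_zero, zero_mul]), hSe,
      Finset.sum_insert (by simp [hab, hac]), Finset.sum_pair hbc, add_assoc]
  have hsum : ∀ j < 6, T.co C a * T.w a j + T.co C b * T.w b j + T.co C c * T.w c j = tgt.getD j 0 := by
    intro j hj
    have := hsplit (M := ℤ) (fun χ => T.w χ j)
    simp only [Int.cast_id] at this
    rw [T.sum_co_w C hj, T.w0 j hj] at this
    rw [← hrow j hj, this]
    ring
  have hdeg : T.co C a * T.d a + T.co C b * T.d b + T.co C c * T.d c = -c₀ := by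
    have := hsplit (M := ℤ) (fun χ => (T.d χ : ℤ))
    simp only [Int.cast_id] at this
    have h2 : ∑ χ, T.co C χ * (T.d χ : ℤ) = 0 := by
      simp only [Tbl.co, Finset.sum_mul]
      rw [Finset.sum_comm]
      refine Finset.sum_eq_zero fun j hj => ?_
      rw [Finset.sum_congr rfl fun χ _ => show C j * T.w χ j * (T.d χ : ℤ) = C j * ((T.d χ : ℤ) * T.w χ j) by ring,
        ← Finset.mul_sum, T.deg j (Finset.mem_range.1 hj), mul_zero]
    rw [h2, T.d0, Nat.cast_one, mul_one] at this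
    linarith
  obtain ⟨k, hk, x, y, z, hset, hd, hF, rfl⟩ := T.inKeys_sv hL hOK ha hb hc hab hac hbc hsum htgt
  have hxyz : ∀ u : ι, u = x ∨ u = y ∨ u = z → T.Memb C u := by
    intro u hu
    have : u ∈ ({a, b, c} : Set ι) := by rw [← hset]; simpa using hu
    simp only [Set.mem_insert_iff, Set.mem_singleton_iff] at this
    rcases this with rfl | rfl | rfl <;> assumption
  have hx := hxyz x (Or.inl rfl)
  have hy := hxyz y (Or.inr (Or.inl rfl))
  have hz := hxyz z (Or.inr (Or.inr rfl))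
  refine ⟨_, hk, _, _, _, hx.sig, hy.sig, hz.sig, hd.trans hdeg, ?_⟩
  rw [Finset.sum_congr rfl fun χ _ => mul_div_assoc _ _ _, hsplit]
  have eF := hF fun u => (T.co C u : ℚ) * (((valX (T.w u) * valX (T.w u) : ℤ) : ℚ) / (T.d u : ℚ))
  beta_reduce at eF
  rw [← eF]
  have hterm : ∀ {u : ι}, T.Memb C u → (T.co C u : ℚ) * (((valX (T.w u) * valX (T.w u) : ℤ) : ℚ) / (T.d u : ℚ)) =
      ((keyOf (T.sv C u)).1 : ℚ) / ((T.co C u * T.d u : ℤ) : ℚ) := by
    intro u hu
    have h2 : (T.co C u : ℚ) * T.co C u = 1 := by exact_mod_cast hu.2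
    have hd0 : (T.d u : ℚ) ≠ 0 := Nat.cast_ne_zero.2 (by have := T.two u hu.1; omega)
    have hc0 : (T.co C u : ℚ) ≠ 0 := fun e => by rw [e, mul_zero] at h2; exact zero_ne_one h2
    rw [T.keyOf_sv]
    push_cast
    field_simp
  rw [hterm hx, hterm hy, hterm hz]
  have hX0 : valX (T.w T.i₀) = 1 := by
    simp only [valX, T.w0 _ (by norm_num : (0 : ℕ) < 6), T.w0 _ (by norm_num : (1 : ℕ) < 6),
      T.w0 _ (by norm_num : (2 : ℕ) < 6), T.w0 _ (by norm_num : (3 : ℕ) < 6), T.w0 _ (by norm_num : (4 : ℕ) < 6),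
      T.w0 _ (by norm_num : (5 : ℕ) < 6)]
    rfl
  rw [hX0, T.d0]
  simp
  ring

end CfsgLib.SmallGroups.J3Order
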