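import Cfsg.Agent.Lib.SmallGroups.J3Order.Monomial
import Cfsg.Agent.Lib.Blocks.Basic
import Cfsg.Agent.Lib.Blocks.Defect

/-!
# Character values on the centraliser: fusion, integrality and the Sylow congruence
-/

set_option autoImplicit false
set_option maxRecDepth 100000
set_option linter.style.haveILetI false
set_option linter.unusedSectionVars false

open scoped ComplexConjugate

namespace CfsgLib.SmallGroups.J3Order

open Conc Cfsg

theorem rp_lt (c : ℕ) : rp c < 1920 := by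
  have h := reps_ok
  simp only [Bool.and_eq_true, beq_iff_eq, List.all_eq_true, decide_eq_true_eq] at h
  rw [rp]
  by_cases hc : c < reps.length
  · rw [List.getD_eq_getElem (hn := hc)]; exact h.1.1.2 _ (List.getElem_mem _)
  · rw [List.getD_eq_default _ _ (by omega)]; norm_num

theorem rp11_lt (g : ℕ) : rp11 g < 1920 := rp_lt _

theorem rp11_four : rp11 4 = 960 ∧ rp11 0 = 0 := by
  have h := reps_ok
  simp only [Bool.and_eq_true, beq_iff_eq] at h
  exact ⟨h.1.2, h.2⟩

variable {G : Type*} [Group G] [Fintype G] {t : G} {ρ : ℕ → G}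

theorem Loc.pow (h : Loc t ρ) {i : ℕ} (hi : i < 1920) : ∀ k, ρ (pw i k) = ρ i ^ k ∧ pw i k < 1920
  | 0 => ⟨by rw [pw, pow_zero, h.one], by norm_num [pw]⟩
  | k + 1 => by
    obtain ⟨e, hl⟩ := Loc.pow h hi k
    exact ⟨by rw [pw, h.mul _ hl _ hi, e, pow_succ], h.lt _ hl _ hi⟩

theorem Loc.conj (h : Loc t ρ) {i g r : ℕ} (hi : i < 1920) (hg : g < 1920) (hr : r < 1920)
    (e : J3Order.mul g r = J3Order.mul i g) : IsConj (ρ r) (ρ i) := by
  refine isConj_iff.2 ⟨ρ g, ?_⟩
  have := congrArg ρ e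
  rw [h.mul _ hg _ hr, h.mul _ hi _ hg] at this
  rw [this, mul_inv_cancel_right]

/-- The value of a character at one of the eleven representatives. -/
noncomputable def val (ρ : ℕ → G) (χ : G → ℂ) (g : ℕ) : ℂ := χ (ρ (rp11 g))

/-- A class of the model is fused into the class of its representative among the eleven. -/
theorem Loc.fusion (h : Loc t ρ) (hone : ∀ x y : G, orderOf x = 2 → orderOf y = 2 → IsConj x y) {c : ℕ}
    (hc : c < 16) : fus.getD c 0 < 11 ∧ IsConj (ρ (rp11 (fus.getD c 0))) (ρ (rp c)) := by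
  have hf := List.all_eq_true.1 fus_ok c (List.mem_range.2 hc)
  simp only [Bool.and_eq_true, decide_eq_true_eq, Bool.or_eq_true, beq_iff_eq, Bool.not_eq_true',
    beq_eq_false_iff_ne] at hf
  obtain ⟨⟨⟨⟨hlt, hcase⟩, h4⟩, h5⟩, h6⟩ := hf
  refine ⟨hlt, ?_⟩
  have hr := rp_lt c
  have h0 : ρ 0 = 1 := h.one
  have hne : ∀ {i}, i < 1920 → i ≠ 0 → ρ i ≠ 1 := fun {i} hi hi0 e => hi0 (h.inj i hi 0 (by norm_num) (e.trans h0.symm))
  rcases hcase with ((e | e) | e) | e
  · obtain ⟨a, b⟩ := h4.resolve_left (not_not.2 e)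
    rw [e, rp11_four.1, h.centre]
    refine hone _ _ h.ht (orderOf_eq_prime ?_ (hne hr b))
    rw [pow_two, ← h.mul _ hr _ hr, a, h0]
  · obtain ⟨a, b⟩ := h5.resolve_left (not_not.2 e)
    rw [e]
    obtain ⟨e4, l4⟩ := h.pow hr 4
    obtain ⟨e2, l2⟩ := h.pow hr 2
    rw [a, h0] at e4
    have hord : orderOf (ρ (rp c) ^ 2) = 2 :=
      orderOf_eq_prime (by rw [← pow_mul]; exact e4.symm) (by rw [← e2]; exact hne l2 b)
    obtain ⟨x, hx⟩ := isConj_iff.1 (hone _ _ hord h.ht)
    have hy : (x * ρ (rp c) * x⁻¹) ^ 2 = t := by rw [conj_pow, hx]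
    obtain ⟨i, hi, hie⟩ := h.cover (x * ρ (rp c) * x⁻¹) (by
      rw [← hy]; exact ((Commute.refl _).pow_right 2).eq)
    have hi2 : J3Order.mul i i = 960 := h.inj _ (h.lt _ hi _ hi) 960 (by norm_num)
      (by rw [h.mul _ hi _ hi, hie, h.centre, ← hy, pow_two])
    have hs := List.all_eq_true.1 sq_centre i (List.mem_range.2 hi)
    simp only [hi2, beq_self_eq_true, Bool.not_true, Bool.false_or, List.any_eq_true, Bool.and_eq_true,
      decide_eq_true_eq, beq_iff_eq] at hs
    obtain ⟨g, -, hg, he⟩ := hs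
    have := h.conj hi hg (rp11_lt 5) he
    rw [hie] at this
    exact this.trans (isConj_iff.2 ⟨x, rfl⟩).symm
  · obtain ⟨⟨a, b⟩, b'⟩ := h6.resolve_left (not_not.2 e)
    rw [e]
    obtain ⟨e6, l6⟩ := h.pow hr 6
    obtain ⟨e3, l3⟩ := h.pow hr 3
    obtain ⟨e2, l2⟩ := h.pow hr 2
    rw [a, h0] at e6
    have hord : orderOf (ρ (rp c) ^ 3) = 2 :=
      orderOf_eq_prime (by rw [← pow_mul]; exact e6.symm) (by rw [← e3]; exact hne l3 b)
    obtain ⟨x, hx⟩ := isConj_iff.1 (hone _ _ hord h.ht)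
    have hy : (x * ρ (rp c) * x⁻¹) ^ 3 = t := by rw [conj_pow, hx]
    obtain ⟨i, hi, hie⟩ := h.cover (x * ρ (rp c) * x⁻¹) (by
      rw [← hy]; exact ((Commute.refl _).pow_right 3).eq)
    have hi3 : pw i 3 = 960 := h.inj _ (h.pow hi 3).2 960 (by norm_num)
      (by rw [(h.pow hi 3).1, hie, h.centre, hy])
    have hs := List.all_eq_true.1 cube_centre i (List.mem_range.2 hi)
    simp only [hi3, beq_self_eq_true, Bool.not_true, Bool.false_or, List.any_eq_true, Bool.and_eq_true,
      decide_eq_true_eq, beq_iff_eq, Bool.or_eq_true] at hs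
    rcases hs with hs | hs
    · exfalso
      refine hne l2 b' ?_
      rw [e2]
      have h' := (h.pow hi 2).1
      rw [hs, h0, hie, conj_pow] at h'
      exact conj_eq_one_iff.1 h'.symm
    obtain ⟨g, -, hg, he⟩ := hs
    have := h.conj hi hg (rp11_lt 6) he
    rw [hie] at this
    exact this.trans (isConj_iff.2 ⟨x, rfl⟩).symm
  · rw [rp11, e]

theorem Loc.valIdx_spec (h : Loc t ρ) (hone : ∀ x y : G, orderOf x = 2 → orderOf y = 2 → IsConj x y)
    {L : List (ℕ × ℕ)} (hL : L ∈ subs) {p : ℕ × ℕ} (hp : p ∈ L) (χ : IrrCharacter G) :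
    valIdx p.1 < 11 ∧ (χ : G → ℂ) (ρ p.1) = val ρ (χ : G → ℂ) (valIdx p.1) := by
  have hl := List.all_eq_true.1 (List.all_eq_true.1 subs_labelled L hL) p hp
  simp only [List.any_eq_true, beq_iff_eq] at hl
  obtain ⟨q, hq, hqe⟩ := hl
  obtain ⟨q', hq'⟩ := Option.isSome_iff_exists.1
    ((List.find?_isSome (p := fun r : ℕ × ℕ × ℕ => r.1 == p.1) (xs := labels)).2 ⟨q, hq, by simpa using hqe⟩)
  have hmem := List.mem_of_find?_eq_some hq'
  have he : q'.1 = p.1 := by simpa using List.find?_some hq'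
  have hk := List.all_eq_true.1 labels_ok q' hmem
  simp only [Bool.and_eq_true, decide_eq_true_eq, beq_iff_eq] at hk
  obtain ⟨⟨⟨h1, h2⟩, h3⟩, h4⟩ := hk
  obtain ⟨hlt, hc⟩ := h.fusion hone h2
  have hfus : fus.getD q'.2.1 11 = fus.getD q'.2.1 0 := by
    have hlen : q'.2.1 < fus.length := by
      have hr := reps_ok
      simp only [Bool.and_eq_true, beq_iff_eq] at hr
      omega
    rw [List.getD_eq_getElem (hn := hlen), List.getD_eq_getElem (hn := hlen)]
  have hv : valIdx p.1 = fus.getD q'.2.1 0 := by simp only [valIdx, hq', hfus]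
  rw [hv]
  refine ⟨hlt, ?_⟩
  have := h.conj h1 h3 (rp_lt _) h4
  rw [he] at this
  exact (CfsgLib.Char.IsClassFunction.apply_eq_of_isConj (CfsgLib.Char.IsIrrCharacter.isClassFunction χ.2)
    (hc.trans this)).symm

theorem Loc.sum_values (h : Loc t ρ) (hone : ∀ x y : G, orderOf x = 2 → orderOf y = 2 → IsConj x y)
    {L : List (ℕ × ℕ)} (hL : L ∈ subs) (χ : IrrCharacter G) :
    (L.map fun p => (χ : G → ℂ) (ρ p.1) * conj (ω ^ p.2)).sum =
      ∑ g ∈ Finset.range 11, val ρ (χ : G → ℂ) g * ((sumA g (tagged L) : ℂ) + (sumB g (tagged L) : ℂ) * ω) := by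
  rw [← sum_tagged, tagged, List.map_map]
  · refine congrArg List.sum (List.map_congr_left fun p hp => ?_)
    simp only [Function.comp]
    rw [(h.valIdx_spec hone hL hp χ).2, conj_pow_eq ((sub_of_mem hL).lt p hp).2]
  · intro p hp
    simp only [tagged, List.mem_map] at hp
    obtain ⟨p', hp', rfl⟩ := hp
    exact (h.valIdx_spec hone hL hp' χ).1

theorem sub_lengths : (subs.all fun L => decide (0 < L.length) && 1920 % L.length == 0) = true := by decide +kernel

theorem Loc.comb_integral (h : Loc t ρ) (hone : ∀ x y : G, orderOf x = 2 → orderOf y = 2 → IsConj x y)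
    (χ : IrrCharacter G) : ∀ (S : List (List (ℕ × ℕ))), (∀ L ∈ S, L ∈ subs) → ∀ c : List ℤ, ∃ w : ℤ,
      ∑ g ∈ Finset.range 11, val ρ (χ : G → ℂ) g *
        ((((c.zip S).foldr (fun p acc => p.1 * (1920 / p.2.length : ℕ) * sumA g (tagged p.2) + acc) 0 : ℤ) : ℂ) +
          (((c.zip S).foldr (fun p acc => p.1 * (1920 / p.2.length : ℕ) * sumB g (tagged p.2) + acc) 0 : ℤ) : ℂ) * ω) =
      1920 * (w : ℂ)
  | [], _, c => ⟨0, by simp⟩
  | L :: S, hS, [] => ⟨0, by simp⟩
  | L :: S, hS, a :: c => by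
    obtain ⟨w, hw⟩ := Loc.comb_integral h hone χ S (fun M hM => hS M (List.mem_cons_of_mem _ hM)) c
    have hL := hS L List.mem_cons_self
    obtain ⟨m, hm⟩ := h.exists_mult (sub_of_mem hL) (CfsgLib.Char.isCharacter_irr χ)
    rw [h.sum_values hone hL χ] at hm
    refine ⟨a * m + w, ?_⟩
    have hl := List.all_eq_true.1 sub_lengths L hL
    simp only [Bool.and_eq_true, decide_eq_true_eq, beq_iff_eq] at hl
    have hd : ((1920 / L.length : ℕ) : ℂ) * (L.length : ℂ) = 1920 := by
      rw [← Nat.cast_mul, Nat.div_mul_cancel (Nat.dvd_of_mod_eq_zero hl.2)]; norm_num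
    simp only [List.zip_cons_cons, List.foldr_cons]
    calc _ = ((a : ℂ) * ((1920 / L.length : ℕ) : ℂ)) *
          (∑ g ∈ Finset.range 11, val ρ (χ : G → ℂ) g * ((sumA g (tagged L) : ℂ) + (sumB g (tagged L) : ℂ) * ω)) +
          1920 * (w : ℂ) := by
          rw [← hw, Finset.mul_sum, ← Finset.sum_add_distrib]
          refine Finset.sum_congr rfl fun g _ => ?_
          generalize 1920 / L.length = r
          simp only [Int.cast_add, Int.cast_mul, Int.cast_natCast]
          ring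
      _ = (a : ℂ) * (m : ℂ) * (((1920 / L.length : ℕ) : ℂ) * (L.length : ℂ)) + 1920 * (w : ℂ) := by rw [hm]; ring
      _ = _ := by rw [hd]; push_cast; ring

/-- The six integral linear forms in the values on the section of the involution. -/
theorem Loc.theta_integral (h : Loc t ρ) (hone : ∀ x y : G, orderOf x = 2 → orderOf y = 2 → IsConj x y)
    (χ : IrrCharacter G) {j : ℕ} (hj : j < 6) : ∃ w : ℤ,
      ∑ g ∈ Finset.range 11, val ρ (χ : G → ℂ) g * (((target.getD j []).getD g 0 : ℤ) : ℂ) = 1920 * (w : ℂ) := by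
  obtain ⟨w, hw⟩ := h.comb_integral hone χ subs (fun L hL => hL) (coef.getD j [])
  refine ⟨w, ?_⟩
  rw [← hw]
  refine Finset.sum_congr rfl fun g hg => ?_
  have hc := List.all_eq_true.1 (List.all_eq_true.1 cert_ok j (List.mem_range.2 hj)) g
    (List.mem_range.2 (Finset.mem_range.1 hg))
  simp only [Bool.and_eq_true, beq_iff_eq, comb] at hc
  rw [hc.1, hc.2, Int.cast_zero, zero_mul, add_zero]

/-- The average over a Sylow subgroup. -/
theorem Loc.sylow_integral (h : Loc t ρ) (hone : ∀ x y : G, orderOf x = 2 → orderOf y = 2 → IsConj x y)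
    (χ : IrrCharacter G) : ∃ n : ℤ, (charDegree (χ : G → ℂ) : ℂ) + 35 * val ρ (χ : G → ℂ) 4 +
      44 * val ρ (χ : G → ℂ) 5 + 48 * val ρ (χ : G → ℂ) 7 = 128 * (n : ℂ) := by
  have hL : subs.getD 10 [] ∈ subs := by
    rw [List.getD_eq_getElem (hn := by decide +kernel)]; exact List.getElem_mem _
  obtain ⟨n, hn⟩ := h.exists_mult (sub_of_mem hL) (CfsgLib.Char.isCharacter_irr χ)
  rw [h.sum_values hone hL χ] at hn
  refine ⟨n, ?_⟩
  obtain ⟨hA, hB⟩ := sylow_values
  have hB' : ∀ g < 11, sumB g (tagged (subs.getD 10 [])) = 0 := fun g hg => by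
    simpa using List.all_eq_true.1 hB g (List.mem_range.2 hg)
  simp only [List.range_succ, List.range_zero, List.nil_append, List.cons_append, List.map_cons, List.map_nil,
    List.cons.injEq, and_true] at hA
  obtain ⟨a0, a1, a2, a3, a4, a5, a6, a7, a8, a9, a10⟩ := hA
  simp only [Finset.sum_range_succ, Finset.sum_range_zero, hB' 0 (by norm_num), hB' 1 (by norm_num),
    hB' 2 (by norm_num), hB' 3 (by norm_num), hB' 4 (by norm_num), hB' 5 (by norm_num), hB' 6 (by norm_num),
    hB' 7 (by norm_num), hB' 8 (by norm_num), hB' 9 (by norm_num), hB' 10 (by norm_num),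
    a0, a1, a2, a3, a4, a5, a6, a7, a8, a9, a10, sylow_card.1] at hn
  have hd : val ρ (χ : G → ℂ) 0 = (charDegree (χ : G → ℂ) : ℂ) := by
    rw [val, rp11_four.2, h.one, Blocks.irr_one_eq]
  rw [hd] at hn
  push_cast at hn
  linear_combination hn

end CfsgLib.SmallGroups.J3Order
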